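import Cfsg.Agent.H74.ThompsonABasic
import Cfsg.Agent.H1.ThompsonComplement

/-!
Thompson's normal `p`-complement theorem for the abelian Thompson subgroup, `p` odd or `S₄`-free
(the argument of `H1.thompson_normal_p_complement`, with a quadratic replacement).
-/

set_option autoImplicit false

namespace H74.JA

open H1
open scoped Pointwise commutatorElement

universe u

/-- The condition under which an elementary abelian `p`-group moves `|A|²` cosets. -/
def GoodAction {F : Type*} [Group F] (p : ℕ) (Q : Subgroup F) : Prop :=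
  p ≠ 2 ∨ p = 2 ∧ ∃ r : ℕ, r.Prime ∧ 5 ≤ r ∧ IsPGroup r Q

theorem involves_of_equiv {H G G' : Type*} [Group H] [Group G] [Group G'] [Finite G] (e : G' ≃* G)
    (h : Cfsg.Involves H G') : Cfsg.Involves H G := by
  obtain ⟨K, R, hn, ⟨f⟩⟩ := h
  haveI := hn
  exact S4Section.involves_of_surjective
    ((f.toMonoidHom.comp (QuotientGroup.mk' (R.subgroupOf K))).comp
      (K.equivMapOfInjective e.toMonoidHom e.injective).symm.toMonoidHom)
    ((f.surjective.comp (QuotientGroup.mk'_surjective _)).comp
      (K.equivMapOfInjective e.toMonoidHom e.injective).symm.surjective)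

theorem involves_subgroup {H G : Type*} [Group H] [Group G] [Finite G] {S : Subgroup G}
    (h : Cfsg.Involves H S) : Cfsg.Involves H G := by
  obtain ⟨K, R, hn, ⟨f⟩⟩ := h
  haveI := hn
  exact S4Section.involves_of_surjective
    ((f.toMonoidHom.comp (QuotientGroup.mk' (R.subgroupOf K))).comp
      (K.equivMapOfInjective S.subtype S.subtype_injective).symm.toMonoidHom)
    ((f.surjective.comp (QuotientGroup.mk'_surjective _)).comp
      (K.equivMapOfInjective S.subtype S.subtype_injective).symm.surjective)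

theorem involves_quotient {H G : Type*} [Group H] [Group G] [Finite G] {N : Subgroup G} [N.Normal]
    (h : Cfsg.Involves H (G ⧸ N)) : Cfsg.Involves H G := by
  obtain ⟨K, R, hn, ⟨f⟩⟩ := h
  haveI := hn
  refine S4Section.involves_of_surjective
    ((f.toMonoidHom.comp (QuotientGroup.mk' (R.subgroupOf K))).comp
      ((QuotientGroup.mk' N).subgroupComap K))
    ((f.surjective.comp (QuotientGroup.mk'_surjective _)).comp fun v => ?_)
  obtain ⟨a, ha⟩ := QuotientGroup.mk'_surjective N (v : G ⧸ N)
  exact ⟨⟨a, show QuotientGroup.mk' N a ∈ K by rw [ha]; exact v.2⟩, Subtype.ext ha⟩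

/-- For `p = 2`, an `S₄`-free group leaves only inverted primes `≥ 5`. -/
theorem good_action {G : Type*} [Group G] [Finite G] {p : ℕ} [Fact p.Prime]
    (hp : p ≠ 2 ∨ ¬ Cfsg.Involves (Equiv.Perm (Fin 4)) G) (U V : Subgroup G) [U.Normal] [V.Normal]
    (hCV : Subgroup.centralizer (V : Set G) = U) (hV : IsPGroup p V) (Q : Subgroup (G ⧸ U)) [Q.Normal]
    (hQc : IsMulCommutative Q) (hQp : (Nat.card Q).Coprime p) {r : ℕ} [Fact r.Prime] (hQr : IsPGroup r Q)
    {Ab : Subgroup (G ⧸ U)} (hAbe : Cfsg.IsElementaryAbelian p Ab) (hAb1 : Ab ≠ ⊥)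
    (hAbQ : Ab ⊓ Subgroup.centralizer (Q : Set (G ⧸ U)) = ⊥) : GoodAction p Q := by
  by_cases h2 : p = 2
  swap
  · exact Or.inl h2
  subst h2
  have hfree := hp.resolve_left (by norm_num)
  obtain ⟨b, hb, hb1⟩ := Ab.bot_or_exists_ne_one.resolve_left hAb1
  obtain ⟨q, hq, hqb⟩ : ∃ q ∈ Q, q * b ≠ b * q := by
    by_contra h
    push Not at h
    exact hb1 (Subgroup.mem_bot.mp (hAbQ ▸ ⟨hb, Subgroup.mem_centralizer_iff.mpr h⟩))
  set q0 := b * q * b⁻¹ * q⁻¹ with hq0
  have hq0Q : q0 ∈ Q := mul_mem (Subgroup.Normal.conj_mem inferInstance q hq b) (inv_mem hq)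
  have hbb : b * b = 1 := by rw [← pow_two]; exact hAbe.2 b hb
  have hinv : b * q0 * b⁻¹ = q0⁻¹ := by
    have hb' : b⁻¹ = b := inv_eq_of_mul_eq_one_right hbb
    have hqc : q * (b * q * b⁻¹)⁻¹ = (b * q * b⁻¹)⁻¹ * q :=
      congrArg Subtype.val (hQc.is_comm.comm ⟨q, hq⟩
        ⟨_, inv_mem (Subgroup.Normal.conj_mem inferInstance q hq b)⟩)
    calc b * q0 * b⁻¹ = (b * b) * q * (b⁻¹ * q⁻¹ * b⁻¹) := by rw [hq0]; group
      _ = q * (b * q⁻¹ * b⁻¹) := by rw [hbb, one_mul]; conv_lhs => rw [hb']
                                    conv_rhs => rw [hb']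
      _ = q0⁻¹ := by rw [hq0]; group
  have hq01 : q0 ≠ 1 := fun h => hqb (by
    rw [hq0, mul_inv_eq_one, mul_inv_eq_iff_eq_mul] at h
    exact h.symm)
  obtain ⟨k, hk⟩ := IsPGroup.iff_orderOf.mp hQr ⟨q0, hq0Q⟩
  rw [Subgroup.orderOf_mk] at hk
  have hk0 : k ≠ 0 := fun h => hq01 (orderOf_eq_one_iff.mp (by rw [hk, h, pow_zero]))
  have hr : r.Prime := Fact.out
  have hr2 : r ≠ 2 := by
    rintro rfl
    have h4 : 2 ∣ Nat.card Q := by
      refine dvd_trans ?_ (Subgroup.orderOf_dvd_natCard (s := Q) hq0Q)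
      rw [hk]
      exact dvd_pow_self 2 hk0
    exact absurd (Nat.eq_one_of_dvd_coprimes hQp h4 dvd_rfl) (by norm_num)
  by_cases h3 : r = 3
  · subst h3
    exfalso
    obtain ⟨l, rfl⟩ := Nat.exists_eq_succ_of_ne_zero hk0
    have hS3 : Cfsg.Involves (Equiv.Perm (Fin 3)) (G ⧸ U) :=
      S4Section.involves_symm_three (x := b) (y := q0) (k := 1)
        (by rw [pow_one]; exact orderOf_eq_prime (hAbe.2 b hb) hb1) hk hinv
    apply hfree
    refine S4Section.symm_four_of_automizer hV ?_
    let f : ↥(Subgroup.normalizer (V : Set G)) →* G ⧸ U :=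
      (QuotientGroup.mk' U).comp (Subgroup.normalizer (V : Set G)).subtype
    have hf : Function.Surjective f := fun x => by
      obtain ⟨g, rfl⟩ := QuotientGroup.mk'_surjective U x
      exact ⟨⟨g, by rw [Subgroup.normalizer_eq_top]; exact Subgroup.mem_top g⟩, rfl⟩
    have hk' : f.ker =
        (Subgroup.centralizer (V : Set G)).subgroupOf (Subgroup.normalizer (V : Set G)) := by
      ext x
      rw [MonoidHom.mem_ker, Subgroup.mem_subgroupOf, hCV]
      exact QuotientGroup.eq_one_iff (x : G)
    exact involves_of_equiv ((QuotientGroup.quotientMulEquivOfEq hk'.symm).trans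
      (QuotientGroup.quotientKerEquivOfSurjective f hf)).symm hS3
  · have h4 : r ≠ 4 := by rintro rfl; norm_num at hr
    exact Or.inr ⟨rfl, r, hr, by have := hr.two_le; omega, hQr⟩

/-- The offender bound. -/
theorem pow_le_relIndex_of_faithful {G : Type*} [Group G] [Finite G] {p : ℕ} [hp : Fact p.Prime]
    {A Q V : Subgroup G} (hA : Cfsg.IsElementaryAbelian p A) (hQ : IsMulCommutative Q)
    (hQp : (Nat.card Q).Coprime p) (hV : IsMulCommutative V) (hexp : ∀ v ∈ V, v ^ p = 1)
    (hAQ : A ≤ Subgroup.normalizer (Q : Set G)) (hAV : A ≤ Subgroup.normalizer (V : Set G))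
    (hQV : Q ≤ Subgroup.normalizer (V : Set G))
    (hQf : Q ⊓ Subgroup.centralizer (V : Set G) = ⊥)
    (hAf : A ⊓ Subgroup.centralizer (Q : Set G) = ⊥) (hcase : GoodAction p Q) :
    Nat.card A ^ 2 ≤ (V ⊓ Subgroup.centralizer (A : Set G)).relIndex V := by
  induction hn : Nat.card A using Nat.strong_induction_on generalizing A with
  | _ n ih =>
  subst hn
  by_cases hA0 : A = ⊥
  · subst hA0
    rw [Subgroup.card_bot, one_pow]
    exact Nat.one_le_iff_ne_zero.mpr Subgroup.index_ne_zero_of_finite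
  obtain ⟨B, hBA, hBi, hBW⟩ : ∃ B : Subgroup G, B ≤ A ∧ B.relIndex A = p ∧
      ¬ Q ⊓ Subgroup.centralizer (B : Set G) ≤ Subgroup.centralizer (A : Set G) := by
    by_contra h
    push Not at h
    have hQA : Q ≤ Subgroup.centralizer (A : Set G) :=
      H8.generation hA hA0 hAQ (fun hd => hp.out.not_dvd_one (hQp ▸ Nat.dvd_gcd hd dvd_rfl))
        (fun B h1 h2 => h B h1 h2)
    exact hA0 (le_bot_iff.mp (hAf ▸ le_inf le_rfl (Subgroup.le_centralizer_iff.mp hQA)))
  have hBcard : Nat.card B * p = Nat.card A := by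
    have := (B.subgroupOf A).card_mul_index
    rwa [Nat.card_congr (Subgroup.subgroupOfEquivOfLe hBA).toEquiv,
      show (B.subgroupOf A).index = p from hBi] at this
  have hlt : Nat.card B < Nat.card A := by
    rw [← hBcard]; exact lt_mul_of_one_lt_right Nat.card_pos hp.out.one_lt
  have hAc := hA.1
  have hBe : Cfsg.IsElementaryAbelian p B :=
    ⟨⟨⟨fun x y => Subtype.ext (congrArg Subtype.val
      (hAc.is_comm.comm ⟨x, hBA x.2⟩ ⟨y, hBA y.2⟩) :)⟩⟩, fun b hb => hA.2 b (hBA hb)⟩
  have hB' := ih _ hlt hBe (hBA.trans hAQ) (hBA.trans hAV)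
    (le_bot_iff.mp ((inf_le_inf_right _ hBA).trans hAf.le)) rfl
  obtain ⟨a, haA, haB⟩ : ∃ a ∈ A, a ∉ B := by
    by_contra h
    push Not at h
    exact hlt.ne (by rw [le_antisymm hBA h])
  set a0 := Subgroup.zpowers a with ha0
  have ha0A : a0 ≤ A := Subgroup.zpowers_le.mpr haA
  have hgen : B ⊔ a0 = A := by
    refine Subgroup.eq_of_le_of_card_ge (sup_le hBA ha0A) ?_
    have h1 : Nat.card B ∣ Nat.card ↥(B ⊔ a0) := Subgroup.card_dvd_of_le le_sup_left
    obtain ⟨c, hc⟩ := h1
    have h2 : Nat.card ↥(B ⊔ a0) ∣ Nat.card A := Subgroup.card_dvd_of_le (sup_le hBA ha0A)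
    rw [hc, ← hBcard, Nat.mul_dvd_mul_iff_left Nat.card_pos, Nat.dvd_prime hp.out] at h2
    rcases h2 with rfl | rfl
    · refine absurd ?_ haB
      have := Subgroup.eq_of_le_of_card_ge (le_sup_left : B ≤ B ⊔ a0) (by rw [hc, mul_one])
      exact this.symm.le (Subgroup.mem_sup_right (Subgroup.mem_zpowers a))
    · rw [hc, hBcard]
  set Q1 := Q ⊓ Subgroup.centralizer (B : Set G)
  set Y := ⁅Q1, a0⁆
  set V1 := V ⊓ Subgroup.centralizer (B : Set G)
  have hAcent : A ≤ Subgroup.centralizer (B : Set G) :=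
    (Subgroup.le_centralizer_iff_isMulCommutative.mpr hAc).trans (Subgroup.centralizer_le hBA)
  have haQ1 : a0 ≤ Subgroup.normalizer (Q1 : Set G) :=
    (le_inf (ha0A.trans hAQ) ((ha0A.trans hAcent).trans Subgroup.le_normalizer)).trans
      Subgroup.inf_normalizer_le_normalizer_inf
  have haV1 : a0 ≤ Subgroup.normalizer (V1 : Set G) :=
    (le_inf (ha0A.trans hAV) ((ha0A.trans hAcent).trans Subgroup.le_normalizer)).trans
      Subgroup.inf_normalizer_le_normalizer_inf
  have hYQ1 : Y ≤ Q1 := commutator_le_left_of_le_normalizer haQ1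
  have hYV1 : Y ≤ Subgroup.normalizer (V1 : Set G) :=
    (le_inf ((hYQ1.trans inf_le_left).trans hQV)
      ((hYQ1.trans inf_le_right).trans Subgroup.le_normalizer)).trans
      Subgroup.inf_normalizer_le_normalizer_inf
  have hY0 : Y ≠ ⊥ := by
    intro h
    rw [Subgroup.commutator_eq_bot_iff_le_centralizer] at h
    refine hBW ?_
    rw [← hgen]
    exact Subgroup.le_centralizer_iff.mp
      (sup_le (Subgroup.le_centralizer_iff.mp inf_le_right) (Subgroup.le_centralizer_iff.mp h))
  have hYp : (Nat.card Y).Coprime p :=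
    hQp.coprime_dvd_left (Subgroup.card_dvd_of_le (hYQ1.trans inf_le_left))
  have hexp1 : ∀ v ∈ V1, v ^ p = 1 := fun v hv => hexp v (Subgroup.mem_inf.mp hv).1
  have hV1 : IsMulCommutative V1 :=
    ⟨⟨fun x y => Subtype.ext (congrArg Subtype.val
      (hV.is_comm.comm ⟨x, (Subgroup.mem_inf.mp x.2).1⟩ ⟨y, (Subgroup.mem_inf.mp y.2).1⟩) :)⟩⟩
  have hQ1c : IsMulCommutative Q1 :=
    ⟨⟨fun x y => Subtype.ext (congrArg Subtype.val
      (hQ.is_comm.comm ⟨x, (Subgroup.mem_inf.mp x.2).1⟩ ⟨y, (Subgroup.mem_inf.mp y.2).1⟩) :)⟩⟩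
  have hap : IsPGroup p a0 := (isPGroup_of_forall_pow_eq_one (fun x hx => hA.2 x (ha0A hx)))
  have hfix : Y ⊓ Subgroup.centralizer (a0 : Set G) = ⊥ :=
    commutator_inf_centralizer_eq_bot hQ1c haQ1
      (coprime_card_of_isPGroup (hQp.coprime_dvd_left (Subgroup.card_dvd_of_le inf_le_left)) hap).symm
  have hne : ¬ Y ≤ Subgroup.centralizer (V1 : Set G) := by
    intro h
    have hBY : B ≤ Subgroup.centralizer (Y : Set G) :=
      Subgroup.le_centralizer_iff.mp (hYQ1.trans inf_le_right)
    have := thompson_P_times_Q (isPGroup_of_forall_pow_eq_one hBe.2) hYp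
      (isPGroup_of_forall_pow_eq_one hexp) hBY (hBA.trans hAV)
      ((hYQ1.trans inf_le_left).trans hQV) (Subgroup.le_centralizer_iff.mp h)
    exact hY0 (le_bot_iff.mp (hQf ▸ le_inf (hYQ1.trans inf_le_left) this))
  have haY : a ∈ Subgroup.normalizer (Y : Set G) :=
    right_le_normalizer_commutator (Subgroup.mem_zpowers a)
  have h2 : p ^ 2 ≤ (V1 ⊓ Subgroup.centralizer (Subgroup.zpowers a : Set G)).relIndex V1 := by
    rcases hcase with hp2 | ⟨rfl, r, hr, hr5, hQr⟩
    · exact sq_le_relIndex_of_fpf hp2 hV1 hexp1 (hA.2 a haA) (haV1 (Subgroup.mem_zpowers a)) haY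
        hYV1 hYp hfix hne
    · haveI : Fact r.Prime := ⟨hr⟩
      have hYc : IsMulCommutative Y := H11.isMulCommutative_of_le hQ (hYQ1.trans inf_le_left)
      have ha2 : a * a = 1 := by rw [← pow_two]; exact hA.2 a haA
      refine four_le_relIndex_of_inverted hr5 (isPGroup_of_forall_pow_eq_one hexp1)
        (haV1 (Subgroup.mem_zpowers a)) hYV1 (hQr.to_le (hYQ1.trans inf_le_left)) hYc (fun y hy => ?_) hne
      have hc := (Subgroup.mem_normalizer_iff.mp haY y).mp hy
      have hfx : a * (y * (a * y * a⁻¹)) = y * (a * y * a⁻¹) * a := by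
        have he : y * (a * y * a⁻¹) = a * y * a⁻¹ * y :=
          congrArg Subtype.val (hYc.is_comm.comm ⟨y, hy⟩ ⟨_, hc⟩)
        have ha' : a⁻¹ = a := inv_eq_of_mul_eq_one_right ha2
        calc a * (y * (a * y * a⁻¹)) = (a * y * a⁻¹) * ((a * a) * y * a⁻¹) := by group
          _ = a * y * a⁻¹ * y * a := by rw [ha2, one_mul, ha', mul_assoc (a * y * a) y a]
          _ = y * (a * y * a⁻¹) * a := by rw [← he]
      have h0 : y * (a * y * a⁻¹) = 1 := by
        rw [← Subgroup.mem_bot, ← hfix]
        refine ⟨mul_mem hy hc, Subgroup.mem_centralizer_iff.mpr fun z hz => ?_⟩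
        obtain ⟨k, rfl⟩ := Subgroup.mem_zpowers_iff.mp hz
        exact ((show Commute a (y * (a * y * a⁻¹)) from hfx).zpow_left k).eq
      exact (inv_eq_of_mul_eq_one_right h0).symm
  have heq : V1 ⊓ Subgroup.centralizer (a0 : Set G) = V ⊓ Subgroup.centralizer (A : Set G) := by
    refine le_antisymm (le_inf (inf_le_left.trans inf_le_left) ?_)
      (le_inf (inf_le_inf_left _ (Subgroup.centralizer_le hBA))
        (inf_le_right.trans (Subgroup.centralizer_le ha0A)))
    rw [← hgen]
    exact Subgroup.le_centralizer_iff.mp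
      (sup_le (Subgroup.le_centralizer_iff.mp (inf_le_left.trans inf_le_right))
        (Subgroup.le_centralizer_iff.mp inf_le_right))
  rw [← ha0, heq] at h2
  have hle1 : V ⊓ Subgroup.centralizer (A : Set G) ≤ V1 :=
    inf_le_inf_left _ (Subgroup.centralizer_le hBA)
  rw [← Subgroup.relIndex_mul_relIndex _ V1 V hle1 inf_le_left, ← hBcard, mul_pow, mul_comm]
  exact Nat.mul_le_mul h2 hB'


theorem pow_le_index_fixed {V F : Type*} [Group V] [Finite V] [Group F] [Finite F] {p : ℕ}
    [Fact p.Prime] (hV : ∀ a b : V, a * b = b * a) (hexp : ∀ v : V, v ^ p = 1)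
    (ρ : F →* MulAut V) {A Q : Subgroup F} (hA : Cfsg.IsElementaryAbelian p A)
    (hQ : IsMulCommutative Q) (hQp : (Nat.card Q).Coprime p)
    (hAQ : A ≤ Subgroup.normalizer (Q : Set F))
    (hQf : ∀ q ∈ Q, ρ q = 1 → q = 1) (hAf : A ⊓ Subgroup.centralizer (Q : Set F) = ⊥)
    (hcase : GoodAction p Q) (W : Subgroup V) (hW : ∀ v, v ∈ W ↔ ∀ a ∈ A, ρ a v = v) :
    Nat.card A ^ 2 ≤ W.index := by
  let inl : V →* V ⋊[ρ] F := SemidirectProduct.inl
  let inr : F →* V ⋊[ρ] F := SemidirectProduct.inr
  have hinl : Function.Injective inl := SemidirectProduct.inl_injective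
  have hinr : Function.Injective inr := SemidirectProduct.inr_injective
  have : Finite (V ⋊[ρ] F) :=
    Finite.of_injective (fun x => (x.left, x.right)) (fun x y h => by
      exact SemidirectProduct.ext (congrArg Prod.fst h) (congrArg Prod.snd h))
  have hnorm : ∀ T : Subgroup F, T.map inr ≤ Subgroup.normalizer (inl.range : Set (V ⋊[ρ] F)) := by
    intro T
    have : inl.range.Normal := by
      have h : inl.range = (SemidirectProduct.rightHom : V ⋊[ρ] F →* F).ker :=
        SemidirectProduct.range_inl_eq_ker_rightHom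
      rw [h]; exact MonoidHom.normal_ker _
    exact Subgroup.le_normalizer_of_normal
  have h := pow_le_relIndex_of_faithful (A := A.map inr) (Q := Q.map inr) (V := inl.range)
    (isElementaryAbelian_map hA inr) (H11.isMulCommutative_map hQ inr)
    (by rw [← Nat.card_congr (Q.equivMapOfInjective inr hinr).toEquiv]; exact hQp)
    ⟨⟨fun x y => by
      obtain ⟨_, a, rfl⟩ := x
      obtain ⟨_, b, rfl⟩ := y
      exact Subtype.ext (by
        change inl a * inl b = inl b * inl a
        rw [← map_mul, ← map_mul, hV])⟩⟩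
    (by rintro _ ⟨v, rfl⟩; rw [← map_pow, hexp, map_one])
    ((Subgroup.map_mono hAQ).trans (Q.le_normalizer_map inr)) (hnorm A) (hnorm Q)
    (by
      rw [eq_bot_iff]
      intro x hx
      obtain ⟨⟨q, hq, rfl⟩, hc⟩ := Subgroup.mem_inf.mp hx
      rw [Subgroup.mem_bot]
      have h1 : ρ q = 1 := by
        refine MulEquiv.ext fun v => ?_
        have h2 := Subgroup.mem_centralizer_iff.mp hc (inl v) ⟨v, rfl⟩
        have h3 : inl (ρ q v) = inr q * inl v * inr q⁻¹ := SemidirectProduct.inl_aut q v
        rw [← h2, mul_assoc, ← map_mul, mul_inv_cancel, map_one, mul_one] at h3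
        exact hinl h3
      rw [hQf q hq h1, map_one])
    (by
      rw [eq_bot_iff]
      intro x hx
      obtain ⟨⟨a, ha, rfl⟩, hc⟩ := Subgroup.mem_inf.mp hx
      rw [Subgroup.mem_bot]
      have h1 : a ∈ Subgroup.centralizer (Q : Set F) := Subgroup.mem_centralizer_iff.mpr fun q hq => by
        refine hinr ?_
        rw [map_mul, map_mul]
        exact Subgroup.mem_centralizer_iff.mp hc (inr q) ⟨q, hq, rfl⟩
      have h2 : a ∈ A ⊓ Subgroup.centralizer (Q : Set F) := Subgroup.mem_inf.mpr ⟨ha, h1⟩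
      rw [hAf, Subgroup.mem_bot] at h2
      rw [h2, map_one])
    (hcase.imp id fun ⟨h2, r, hr, hr5, hQr⟩ => ⟨h2, r, hr, hr5, hQr.map inr⟩)
  rw [← Nat.card_congr (A.equivMapOfInjective inr hinr).toEquiv, ← Subgroup.index_comap] at h
  suffices W = (inl.range ⊓ Subgroup.centralizer (A.map inr : Set (V ⋊[ρ] F))).comap inl by
    rwa [this]
  ext v
  rw [Subgroup.mem_comap, Subgroup.mem_inf, hW, Subgroup.mem_centralizer_iff]
  constructor
  · intro h
    refine ⟨⟨v, rfl⟩, ?_⟩
    rintro _ ⟨a, ha, rfl⟩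
    have h3 : inl (ρ a v) = inr a * inl v * inr a⁻¹ := SemidirectProduct.inl_aut a v
    rw [h a ha] at h3
    calc inr a * inl v = inr a * inl v * inr a⁻¹ * inr a := by
          rw [mul_assoc (inr a * inl v), ← map_mul, inv_mul_cancel, map_one, mul_one]
      _ = inl v * inr a := by rw [← h3]
  · rintro ⟨-, h⟩ a ha
    refine hinl ?_
    have h3 : inl (ρ a v) = inr a * inl v * inr a⁻¹ := SemidirectProduct.inl_aut a v
    rw [h3, h (inr a) ⟨a, ha, rfl⟩, mul_assoc, ← map_mul, mul_inv_cancel, map_one, mul_one]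


variable {G : Type*} [Group G]

/-- The last step of Thompson's theorem: no offender over a self-centralising `O_p`. -/
theorem no_offender [Finite G] {p : ℕ} [Fact p.Prime]
    (hp : p ≠ 2 ∨ ¬ Cfsg.Involves (Equiv.Perm (Fin 4)) G) (P : Sylow p G)
    (U : Subgroup G) [U.Normal] (hUP : U ≤ (P : Subgroup G))
    (V : Subgroup G) [V.Normal] (hVU : V ≤ U) (hexp : ∀ v ∈ V, v ^ p = 1)
    (hCV : Subgroup.centralizer (V : Set G) = U)
    (Q : Subgroup (G ⧸ U)) [Q.Normal] (hQc : IsMulCommutative Q) (hQp : (Nat.card Q).Coprime p)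
    {r : ℕ} [Fact r.Prime] (hQr : IsPGroup r Q) (hCQ : Subgroup.centralizer (Q : Set (G ⧸ U)) ≤ Q)
    {A : Subgroup G}
    (hA : A ∈ H11.maxFam (fun A : Subgroup G => IsMulCommutative A) (P : Subgroup G))
    (hAU : ¬ A ≤ U) : False := by
  have hVc : IsMulCommutative V :=
    Subgroup.le_centralizer_iff_isMulCommutative.mp (hCV.symm ▸ hVU)
  obtain ⟨B, hBA, hBU, hBp, hw⟩ := exists_quad_offender P.2 ⟨hVc, hexp⟩ (hVU.trans hUP) hCV
    Subgroup.le_normalizer_of_normal hA hAU
  have hle : U ≤ (MulAut.conjNormal : G →* MulAut V).ker := fun u hu => by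
    rw [MonoidHom.mem_ker]
    refine MulEquiv.ext fun v => Subtype.ext ?_
    rw [MulAut.conjNormal_apply]
    rw [← hCV, Subgroup.mem_centralizer_iff] at hu
    rw [MulAut.one_apply, ← hu v v.2, mul_inv_cancel_right]
  let ρ : G ⧸ U →* MulAut V := QuotientGroup.lift U MulAut.conjNormal hle
  set Ab := B.map (QuotientGroup.mk' U) with hAb
  have hAbe : Cfsg.IsElementaryAbelian p Ab := by
    refine ⟨H11.isMulCommutative_map (H11.isMulCommutative_of_le hA.2.1 hBA) _, ?_⟩
    rintro _ ⟨b, hb, rfl⟩
    rw [← map_pow]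
    exact (QuotientGroup.eq_one_iff _).mpr (hBp b hb)
  have hAbp : IsPGroup p Ab := isPGroup_of_forall_pow_eq_one hAbe.2
  have hAbQ : Ab ⊓ Subgroup.centralizer (Q : Set (G ⧸ U)) = ⊥ := by
    refine le_bot_iff.mp ?_
    calc Ab ⊓ Subgroup.centralizer (Q : Set (G ⧸ U)) ≤ Ab ⊓ Q := inf_le_inf_left _ hCQ
      _ ≤ ⊥ := (Subgroup.disjoint_of_coprime_natCard (coprime_card_of_isPGroup hQp hAbp).symm).le_bot
  have hAb1 : Ab ≠ ⊥ := fun h => hBU (by rwa [hAb, Subgroup.map_eq_bot_iff, QuotientGroup.ker_mk'] at h)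
  have hcase : GoodAction p Q := good_action hp U V hCV (IsPGroup.to_le P.2 (hVU.trans hUP)) Q hQc hQp hQr
    hAbe hAb1 hAbQ
  set W := (Subgroup.centralizer (B : Set G)).subgroupOf V with hW
  have h := pow_le_index_fixed (V := V) hVc.is_comm.comm
    (fun v => Subtype.ext (by simpa using hexp v v.2)) ρ hAbe hQc hQp
    Subgroup.le_normalizer_of_normal (fun q hq h1 => by
      obtain ⟨g, rfl⟩ := QuotientGroup.mk_surjective q
      rw [QuotientGroup.eq_one_iff, ← hCV, Subgroup.mem_centralizer_iff]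
      intro v hv
      have h2 := congrArg Subtype.val (MulEquiv.congr_fun h1 ⟨v, hv⟩)
      rw [show ρ (g : G ⧸ U) = MulAut.conjNormal g from rfl, MulAut.conjNormal_apply] at h2
      simp only [MulAut.one_apply] at h2
      exact (mul_inv_eq_iff_eq_mul.mp h2).symm) hAbQ hcase W (fun v => by
      rw [hW, Subgroup.mem_subgroupOf, Subgroup.mem_centralizer_iff]
      constructor
      · rintro h _ ⟨a, ha, rfl⟩
        refine Subtype.ext ?_
        change a * (v : G) * a⁻¹ = v
        rw [h a ha, mul_inv_cancel_right]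
      · intro h a ha
        have h2 := congrArg Subtype.val (h (a : G ⧸ U) ⟨a, ha, rfl⟩)
        change a * (v : G) * a⁻¹ = v at h2
        exact mul_inv_eq_iff_eq_mul.mp h2)
  have hWc : Nat.card W = Nat.card ↥(V ⊓ Subgroup.centralizer (B : Set G)) := by
    rw [hW, Nat.card_congr ((Subgroup.centralizer (B : Set G)).subgroupOf V |>.equivMapOfInjective
      V.subtype V.subtype_injective).toEquiv, Subgroup.subgroupOf_map_subtype, inf_comm]
  have hBcard : Nat.card ↥(B ⊓ U) * Nat.card Ab = Nat.card B := by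
    have := Subgroup.relIndex_mul_relIndex ⊥ (B ⊓ U) B bot_le inf_le_left
    rw [Subgroup.relIndex_bot_left, Subgroup.relIndex_bot_left, Subgroup.inf_relIndex_left] at this
    rwa [hAb, ← Subgroup.relIndex_ker, QuotientGroup.ker_mk']
  rw [← hWc, ← hBcard, mul_comm (Nat.card V), mul_assoc] at hw
  have h1 : Nat.card V ≤ Nat.card Ab * Nat.card W := Nat.le_of_mul_le_mul_left hw Nat.card_pos
  rw [← W.card_mul_index] at h1
  have h5 : 1 < Nat.card Ab := (Subgroup.one_lt_card_iff_ne_bot Ab).mpr hAb1
  have h6 : Nat.card W * Nat.card Ab ^ 2 ≤ Nat.card W * W.index := Nat.mul_le_mul_left _ h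
  have h7 : 0 < Nat.card W := Nat.card_pos
  have h8 := Nat.mul_lt_mul_of_pos_left h5 (Nat.mul_pos h7 (by omega : 0 < Nat.card Ab))
  nlinarith

/-- **Thompson's normal `p`-complement theorem**. -/
theorem normal_p_complement {p : ℕ} [Fact p.Prime] {G : Type u} [Group G]
    [Finite G] (hp : p ≠ 2 ∨ ¬ Cfsg.Involves (Equiv.Perm (Fin 4)) G) (P : Sylow p G)
    (hN : Cfsg.HasNormalPComplement p
      ↥(Subgroup.normalizer (Cfsg.thompsonSubgroupAOf (P : Subgroup G) : Set G)))
    (hC : Cfsg.HasNormalPComplement p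
      ↥(Subgroup.centralizer (((P : Subgroup G) ⊓ Subgroup.centralizer ((P : Subgroup G) : Set G) :
        Subgroup G) : Set G))) :
    Cfsg.HasNormalPComplement p G := by
  induction hn : Nat.card G using Nat.strong_induction_on generalizing G with
  | _ n ih =>
  subst hn
  by_contra hG
  classical
  -- proper subgroups containing `P`
  have hover : ∀ H : Subgroup G, (P : Subgroup G) ≤ H → H ≠ ⊤ →
      Cfsg.HasNormalPComplement p H := by
    intro H hPH hH
    have hlt : Nat.card H < Nat.card G := lt_of_le_of_ne (Subgroup.card_le_card_group H)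
      (fun h => hH (Subgroup.eq_top_of_card_eq H h))
    let S : Sylow p H := P.subtype hPH
    have hS : (S : Subgroup H).map H.subtype = (P : Subgroup G) := by
      rw [Sylow.coe_subtype, Subgroup.subgroupOf_map_subtype, inf_eq_left.mpr hPH]
    have hdis : ∀ T : Subgroup H, Disjoint T H.subtype.ker := fun T => by
      rw [Subgroup.ker_subtype]; exact disjoint_bot_right
    refine ih _ hlt (hp.imp_right fun h h' => h (involves_subgroup h')) S (npc_of_injective_of_map_le H.subtype H.subtype_injective ?_ hN)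
      (npc_of_injective_of_map_le H.subtype H.subtype_injective ?_ hC) rfl
    · refine (Subgroup.le_normalizer_map H.subtype).trans ?_
      rw [map_JA _ _ (hdis _), hS]
    · refine (Subgroup.map_centralizer_le_centralizer_image _ _).trans ?_
      rw [← Subgroup.coe_map, map_inf_centralizer _ _ (hdis _), hS]
  -- Frobenius: some nontrivial `p`-subgroup is bad
  let Bad : Set (Subgroup G) := {U | U ≠ ⊥ ∧ IsPGroup p U ∧
    ¬ Cfsg.HasNormalPComplement p ↥(Subgroup.normalizer (U : Set G))}
  have hBad : Bad.Nonempty := by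
    by_contra hne
    refine hG (H5.hasNormalPComplement_of_frobenius P fun Q hQ g hg hco => ?_)
    by_cases hQ0 : Q = ⊥
    · subst hQ0
      rw [Subgroup.mem_centralizer_iff]
      intro x hx
      rw [Set.mem_singleton_iff.mp (by simpa using hx : x ∈ ({1} : Set G)), one_mul, mul_one]
    · refine mem_centralizer_of_npc (P.2.to_le hQ) ?_ hg hco
      by_contra h
      exact hne ⟨Q, hQ0, P.2.to_le hQ, h⟩
  let m : Subgroup G → ℕ := fun U =>
    (Nat.card ↥(Subgroup.normalizer (U : Set G))).factorization p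
  let f : Subgroup G → ℕ := fun U => m U * (Nat.card G + 1) + Nat.card U
  obtain ⟨U0, hU0, hU0max⟩ := Set.exists_max_image Bad f Bad.toFinite hBad
  -- conjugate it so that a Sylow subgroup of its normaliser lies in `P`
  obtain ⟨U, hU, hUmax, N, hNdef, S, hSP⟩ : ∃ U ∈ Bad, (∀ U' ∈ Bad, f U' ≤ f U) ∧
      ∃ N : Subgroup G, N = Subgroup.normalizer (U : Set G) ∧
      ∃ S : Sylow p ↥N, (S : Subgroup ↥N).map N.subtype ≤ (P : Subgroup G) := by
    set N0 := Subgroup.normalizer (U0 : Set G)
    let S0 : Sylow p N0 := Classical.arbitrary _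
    obtain ⟨T, hT⟩ := (S0.isPGroup'.map N0.subtype).exists_le_sylow
    obtain ⟨g, hg⟩ := MulAction.exists_smul_eq G T P
    set c := (MulAut.conj g).toMonoidHom with hc
    set U := U0.map c with hUdef
    obtain ⟨e⟩ := normalizerConjEquiv g U0
    have hcardN : m U = m U0 := by
      simp only [m]
      rw [hUdef, hc, Nat.card_congr e.toEquiv]
    have hcardU : Nat.card U = Nat.card U0 :=
      (Nat.card_congr (U0.equivMapOfInjective c (MulAut.conj g).injective).toEquiv).symm
    refine ⟨U, ⟨?_, hU0.2.1.map c, fun h => hU0.2.2 ((H5.hasNormalPComplement_congr e).mpr h)⟩,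
      ?_, Subgroup.normalizer (U : Set G), rfl, ?_⟩
    · rw [hUdef, Ne, Subgroup.map_eq_bot_iff_of_injective _ (MulAut.conj g).injective]
      exact hU0.1
    · intro U' hU'
      have := hU0max U' hU'
      simp only [f, hcardN, hcardU] at this ⊢
      exact this
    · obtain ⟨R, hR⟩ := ((S0.isPGroup'.map N0.subtype).map c).comap_subtype
        (K := Subgroup.normalizer (U : Set G)) |>.exists_le_sylow
      refine ⟨R, ?_⟩
      have hle : (((S0 : Subgroup N0).map N0.subtype).map c) ≤ Subgroup.normalizer (U : Set G) := by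
        rw [hUdef, hc, ← Subgroup.map_equiv_normalizer_eq U0 (MulAut.conj g)]
        exact Subgroup.map_mono (Subgroup.map_subtype_le _)
      have h1 : ((S0 : Subgroup N0).map N0.subtype).map c ≤
          (R : Subgroup ↥(Subgroup.normalizer (U : Set G))).map
            (Subgroup.normalizer (U : Set G)).subtype := by
        have := Subgroup.map_mono (f := (Subgroup.normalizer (U : Set G)).subtype) hR
        rwa [← Subgroup.subgroupOf, Subgroup.subgroupOf_map_subtype, inf_eq_left.mpr hle] at this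
      have h2 : ((S0 : Subgroup N0).map N0.subtype).map c =
          (R : Subgroup ↥(Subgroup.normalizer (U : Set G))).map
            (Subgroup.normalizer (U : Set G)).subtype := by
        refine Subgroup.eq_of_le_of_card_ge h1 (le_of_eq ?_)
        rw [← Nat.card_congr (Subgroup.equivMapOfInjective
            (R : Subgroup ↥(Subgroup.normalizer (U : Set G))) _ (Subgroup.subtype_injective _)).toEquiv,
          R.card_eq_multiplicity,
          ← Nat.card_congr (Subgroup.equivMapOfInjective ((S0 : Subgroup N0).map N0.subtype) c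
            (MulAut.conj g).injective).toEquiv,
          ← Nat.card_congr (Subgroup.equivMapOfInjective (S0 : Subgroup N0) _
            N0.subtype_injective).toEquiv, S0.card_eq_multiplicity]
        exact congrArg (p ^ ·) hcardN
      rw [← h2, ← hg, Sylow.coe_subgroup_smul]
      exact Subgroup.map_mono hT
  clear hU0max hU0 U0
  set S' := (S : Subgroup N).map N.subtype with hS'
  have hmU : Nat.card S' = p ^ m U := by
    rw [hS', ← Nat.card_congr (Subgroup.equivMapOfInjective (S : Subgroup N) _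
      N.subtype_injective).toEquiv, S.card_eq_multiplicity]
    simp only [m, hNdef]
  have hUS : U ≤ S' := by
    have h1 : (U.subgroupOf N).Normal := by subst hNdef; exact Subgroup.normal_in_normalizer
    have := Subgroup.map_mono (f := N.subtype)
      (((hU.2.1.of_equiv (Subgroup.subgroupOfEquivOfLe
        (hNdef ▸ Subgroup.le_normalizer : U ≤ N)).symm)).le_sylow_of_normal S)
    rwa [Subgroup.subgroupOf_map_subtype,
      inf_eq_left.mpr (hNdef ▸ Subgroup.le_normalizer : U ≤ N)] at this
  have hUP : U ≤ (P : Subgroup G) := hUS.trans hSP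
  -- better subgroups are good
  have hgood : ∀ W : Subgroup G, W ≠ ⊥ → IsPGroup p W → ∀ T : Subgroup G, IsPGroup p T →
      T ≤ Subgroup.normalizer (W : Set G) → Nat.card S' ≤ Nat.card T →
      (Nat.card S' < Nat.card T ∨ Nat.card U < Nat.card W) →
      Cfsg.HasNormalPComplement p ↥(Subgroup.normalizer (W : Set G)) := by
    intro W hW hWp T hTp hTN hle hlt
    by_contra hbad
    have hle2 := hUmax W ⟨hW, hWp, hbad⟩
    obtain ⟨k, hk⟩ := IsPGroup.iff_card.mp hTp
    have hkm : k ≤ m W := by
      have h1 : p ^ k ∣ Nat.card ↥(Subgroup.normalizer (W : Set G)) :=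
        hk ▸ Subgroup.card_dvd_of_le hTN
      exact ((Fact.out : p.Prime).pow_dvd_iff_le_factorization Nat.card_pos.ne').mp h1
    rw [hk, hmU] at hle hlt
    have hmk : m U ≤ k := (Nat.pow_le_pow_iff_right (Fact.out : p.Prime).one_lt).mp hle
    have hUle := Subgroup.card_le_card_group U
    have hWle := Subgroup.card_le_card_group W
    simp only [f] at hle2
    rcases hlt with h | h
    · have hmk' : m U < k := (Nat.pow_lt_pow_iff_right (Fact.out : p.Prime).one_lt).mp h
      have : (m U + 1) * (Nat.card G + 1) ≤ m W * (Nat.card G + 1) :=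
        Nat.mul_le_mul_right _ (by omega)
      nlinarith
    · have : m U * (Nat.card G + 1) ≤ m W * (Nat.card G + 1) :=
        Nat.mul_le_mul_right _ (by omega)
      omega
  -- Step 1: `U` is normal
  have hNtop : N = ⊤ := by
    by_contra hNt
    apply hU.2.2
    rw [← hNdef]
    have hlt : Nat.card N < Nat.card G := lt_of_le_of_ne (Subgroup.card_le_card_group N)
      (fun h => hNt (Subgroup.eq_top_of_card_eq N h))
    have hdis : ∀ T : Subgroup N, Disjoint T N.subtype.ker := fun T => by
      rw [Subgroup.ker_subtype]; exact disjoint_bot_right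
    have hS0 : S' ≠ ⊥ := fun h => hU.1 (le_bot_iff.mp (h ▸ hUS))
    have hNJ : Cfsg.HasNormalPComplement p
        ↥(Subgroup.normalizer (Cfsg.thompsonSubgroupAOf S' : Set G)) := by
      rcases hSP.eq_or_lt with heq | hltP
      · rw [heq]; exact hN
      · refine hgood _ (JA_ne_bot hS0)
          ((P.2.to_le hSP).to_le (JA_le S'))
          ((P : Subgroup G) ⊓ Subgroup.normalizer (S' : Set G)) P.2.to_inf_left
          (inf_le_right.trans (normalizer_le_normalizer_JA S')) ?_ (Or.inl ?_)
        all_goals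
          have h1 := isPGroup_sup_lt_normalizer P.2 hltP
          have h2 : Nat.card S' < Nat.card ↥((P : Subgroup G) ⊓ Subgroup.normalizer (S' : Set G)) :=
            lt_of_le_of_ne (Subgroup.card_le_of_le h1.le)
              (fun he => h1.ne (Subgroup.eq_of_le_of_card_ge h1.le he.ge))
        · exact h2.le
        · exact h2
    refine ih _ hlt (hp.imp_right fun h h' => h (involves_subgroup h')) S (npc_of_injective_of_map_le N.subtype N.subtype_injective ?_ hNJ)
      (npc_of_injective_of_map_le N.subtype N.subtype_injective ?_ hC) rfl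
    · refine (Subgroup.le_normalizer_map N.subtype).trans ?_
      rw [map_JA _ _ (hdis _)]
    · refine (Subgroup.map_centralizer_le_centralizer_image _ _).trans ?_
      rw [← Subgroup.coe_map, map_inf_centralizer _ _ (hdis _), ← hS']
      refine Subgroup.centralizer_le ?_
      intro z hz
      obtain ⟨hz1, hz2⟩ := Subgroup.mem_inf.mp (SetLike.mem_coe.mp hz)
      have hzN : z ∈ N :=
        hNdef ▸ (Subgroup.centralizer_le_normalizer _) (Subgroup.centralizer_le hUP hz2)
      have hzS : z ∈ S' := by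
        have hle : S' = (P : Subgroup G) ⊓ N := by
          refine Subgroup.eq_of_le_of_card_ge (le_inf hSP (Subgroup.map_subtype_le _)) ?_
          obtain ⟨k, hk⟩ := IsPGroup.iff_card.mp
            (P.2.to_inf_left : IsPGroup p ↥((P : Subgroup G) ⊓ N))
          rw [hk, hmU]
          simp only [m, ← hNdef]
          refine Nat.pow_le_pow_right (Fact.out : p.Prime).pos ?_
          exact ((Fact.out : p.Prime).pow_dvd_iff_le_factorization Nat.card_pos.ne').mp
            (hk ▸ Subgroup.card_dvd_of_le inf_le_right)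
        rw [hle]
        exact Subgroup.mem_inf.mpr ⟨hz1, hzN⟩
      exact Subgroup.mem_inf.mpr ⟨hzS, Subgroup.centralizer_le hSP hz2⟩
  have hUn : U.Normal := Subgroup.normalizer_eq_top_iff.mp (hNdef ▸ hNtop)
  have hS'P : S' = (P : Subgroup G) := by
    refine Subgroup.eq_of_le_of_card_ge hSP ?_
    rw [hmU, P.card_eq_multiplicity]
    exact le_of_eq (congrArg (p ^ ·) (by simp only [m]; rw [← hNdef, hNtop, Subgroup.card_top]))
  have hgood' : ∀ W : Subgroup G, IsPGroup p W → (P : Subgroup G) ≤ Subgroup.normalizer (W : Set G) →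
      Nat.card U < Nat.card W → Cfsg.HasNormalPComplement p ↥(Subgroup.normalizer (W : Set G)) :=
    fun W hWp hPW hlt => hgood W (fun h => absurd hlt (by
        rw [h, Subgroup.card_bot, not_lt]; exact Nat.card_pos)) hWp P P.2 hPW
      (hS'P ▸ le_rfl) (Or.inr hlt)
  -- Step 2: `G/U` has a normal `p`-complement
  have hUlt : Nat.card (G ⧸ U) < Nat.card G := by
    rw [Subgroup.card_eq_card_quotient_mul_card_subgroup U]
    exact lt_mul_of_one_lt_right Nat.card_pos ((Subgroup.one_lt_card_iff_ne_bot U).mpr hU.1)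
  have hPU : U < (P : Subgroup G) := by
    refine lt_of_le_of_ne hUP fun h => hG (npc_of_eq_top ?_ hN)
    rw [← top_le_iff, ← hNtop, hNdef, ← h]
    exact normalizer_le_normalizer_JA U
  set Pb : Sylow p (G ⧸ U) := P.mapSurjective (QuotientGroup.mk'_surjective U) with hPb
  have hPb0 : (Pb : Subgroup (G ⧸ U)) ≠ ⊥ := by
    rw [hPb, Sylow.coe_mapSurjective, Ne, Subgroup.map_eq_bot_iff, QuotientGroup.ker_mk']
    exact hPU.not_ge
  have hbig : ∀ X : Subgroup (G ⧸ U), X ≤ (Pb : Subgroup (G ⧸ U)) → X ≠ ⊥ →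
      (Pb : Subgroup (G ⧸ U)) ≤ Subgroup.normalizer (X : Set (G ⧸ U)) →
      Cfsg.HasNormalPComplement p ↥(Subgroup.normalizer (X : Set (G ⧸ U))) := by
    intro X hX hX0 hXn
    set W := X.comap (QuotientGroup.mk' U)
    have hWp : IsPGroup p W := (Pb.2.to_le hX).comap_of_ker_isPGroup _
      (by rw [QuotientGroup.ker_mk']; exact hU.2.1)
    have hWn : W.map (QuotientGroup.mk' U) = X :=
      Subgroup.map_comap_eq_self_of_surjective (QuotientGroup.mk'_surjective U) X
    have hlt : Nat.card U < Nat.card W := by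
      rw [card_comap_mk']
      exact lt_mul_of_one_lt_right Nat.card_pos ((Subgroup.one_lt_card_iff_ne_bot X).mpr hX0)
    have hnn : (Subgroup.normalizer (X : Set (G ⧸ U))).comap (QuotientGroup.mk' U) =
        Subgroup.normalizer (W : Set G) :=
      Subgroup.comap_normalizer_eq_of_surjective _ (QuotientGroup.mk'_surjective U)
    refine npc_of_le_map (QuotientGroup.mk' U) ?_ (hgood' W hWp ?_ hlt)
    · rw [← hnn, Subgroup.map_comap_eq_self_of_surjective (QuotientGroup.mk'_surjective U)]
    · rw [← hnn, ← Subgroup.map_le_iff_le_comap, ← Sylow.coe_mapSurjective (QuotientGroup.mk'_surjective U)]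
      exact hXn
  have hQb : Cfsg.HasNormalPComplement p (G ⧸ U) := by
    refine ih _ hUlt (hp.imp_right fun h h' => h (involves_quotient h')) Pb (hbig _ (JA_le _)
      (JA_ne_bot hPb0)
      (Subgroup.le_normalizer.trans (normalizer_le_normalizer_JA _))) ?_ rfl
    set X := (Pb : Subgroup (G ⧸ U)) ⊓
      Subgroup.centralizer ((Pb : Subgroup (G ⧸ U)) : Set (G ⧸ U)) with hX
    refine H5.hasNormalPComplement_of_injective
      (Subgroup.inclusion (Subgroup.centralizer_le_normalizer (X : Set (G ⧸ U))))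
      (Subgroup.inclusion_injective _) (hbig X inf_le_left (inf_centralizer_ne_bot Pb.2 hPb0) ?_)
    exact (Subgroup.le_centralizer_iff.mp inf_le_right).trans (Subgroup.centralizer_le_normalizer _)
  set Qb := Cfsg.pResidual p (G ⧸ U) with hQbdef
  have hQbp : (Nat.card Qb).Coprime p :=
    ((Fact.out : p.Prime).coprime_iff_not_dvd.mpr
      (H5.hasNormalPComplement_iff_not_dvd.mp hQb)).symm
  -- Step 3: `O_{p'}(G) = 1`, and `U` is self-centralising
  have hK : Cfsg.pPrimeCore p G = ⊥ := by
    by_contra hK0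
    have := pPrimeCore_normal' p G
    set K := Cfsg.pPrimeCore p G
    have hKp := card_pPrimeCore_coprime p G
    have hlt : Nat.card (G ⧸ K) < Nat.card G := by
      rw [Subgroup.card_eq_card_quotient_mul_card_subgroup K]
      exact lt_mul_of_one_lt_right Nat.card_pos ((Subgroup.one_lt_card_iff_ne_bot K).mpr hK0)
    have hdis : ∀ T : Subgroup G, IsPGroup p T → Disjoint T (QuotientGroup.mk' K).ker := by
      intro T hT
      rw [QuotientGroup.ker_mk']
      exact (Subgroup.disjoint_of_coprime_natCard (coprime_card_of_isPGroup hKp hT)).symm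
    refine hG (npc_of_quotient K hKp (ih _ hlt (hp.imp_right fun h h' => h (involves_quotient h')) (P.mapSurjective (QuotientGroup.mk'_surjective K))
      (npc_of_le_map (QuotientGroup.mk' K) ?_ hN) (npc_of_le_map (QuotientGroup.mk' K) ?_ hC) rfl))
    · rw [Sylow.coe_mapSurjective, ← map_JA _ _ (hdis _ P.2)]
      exact normalizer_map_le_of_coprime K hKp (P.2.to_le (JA_le _))
    · rw [Sylow.coe_mapSurjective, ← map_inf_centralizer _ _ (hdis _ P.2)]
      exact centralizer_map_le_of_coprime K hKp P.2.to_inf_left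
  have hpsolv : Cfsg.IsPSolvable p G := by
    obtain ⟨a, ha⟩ := IsPGroup.iff_card.mp hU.2.1
    refine H10.isPSolvable_of_quotient_of_card U (Or.inl ⟨a, ha⟩) ?_
    refine H10.isPSolvable_of_quotient_of_card Qb (Or.inr hQbp) ?_
    obtain ⟨b, hb⟩ := IsPGroup.iff_card.mp (H5.isPGroup_quotient_pResidual (p := p) (G := G ⧸ U))
    refine H10.isPSolvable_of_quotient_of_card (⊤ : Subgroup ((G ⧸ U) ⧸ Qb))
      (Or.inl ⟨b, by rw [Subgroup.card_top]; exact hb⟩) ?_
    have : Subsingleton (((G ⧸ U) ⧸ Qb) ⧸ (⊤ : Subgroup ((G ⧸ U) ⧸ Qb))) :=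
      QuotientGroup.subsingleton_quotient_top
    exact H10.isPSolvable_of_subsingleton
  have hOU : Cfsg.pCore p G = U := by
    refine le_antisymm ?_ (le_pCore hU.2.1)
    have hle : U ≤ Cfsg.pCore p G := le_pCore hU.2.1
    by_contra hne
    have hlt : Nat.card U < Nat.card ↥(Cfsg.pCore p G) := lt_of_le_of_ne (Subgroup.card_le_of_le hle)
      (fun he => hne (Subgroup.eq_of_le_of_card_ge hle he.ge).ge)
    have := pCore_normal' p G
    exact hG (npc_of_eq_top (Subgroup.normalizer_eq_top _)
      (hgood' _ (isPGroup_pCore p G) Subgroup.le_normalizer_of_normal hlt))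
  have hCU : Subgroup.centralizer (U : Set G) ≤ U := by
    have := H10.centralizer_pCore_le hpsolv hK
    rwa [hOU] at this
  -- Step 4: `P` is maximal
  have hmaxP : ∀ H : Subgroup G, (P : Subgroup G) ≤ H → H ≠ ⊤ → H = P := by
    intro H hPH hH
    have hR := hover H hPH hH
    set R := (Cfsg.pResidual p H).map H.subtype with hRdef
    have hR0 : R = ⊥ := by
      have hRU : R ≤ Subgroup.centralizer (U : Set G) := by
        rintro _ ⟨r, hr, rfl⟩
        have hr' := (H5.mem_pResidual_iff hR).mp hr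
        rw [← Subgroup.orderOf_coe] at hr'
        rw [Subgroup.orderOf_coe] at hr'
        have hUH : U ≤ H := hUP.trans hPH
        have h1 := mem_centralizer_of_npc (Q := U.subgroupOf H) hU.2.1.comap_subtype
          (H5.hasNormalPComplement_subgroup _ hR)
          (g := r) (by rw [Subgroup.normalizer_eq_top]; exact Subgroup.mem_top _) hr'
        rw [Subgroup.mem_centralizer_iff] at h1 ⊢
        intro u hu
        exact congrArg Subtype.val (h1 ⟨u, hUH hu⟩ hu)
      have hp' : (Nat.card R).Coprime p :=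
        ((Fact.out : p.Prime).coprime_iff_not_dvd.mpr fun hd =>
          H5.hasNormalPComplement_iff_not_dvd.mp hR (hd.trans (Subgroup.card_map_dvd _ _))).symm
      exact (isPGroup_iff_eq_bot_of_coprime hp').mp (hU.2.1.to_le (hRU.trans hCU))
    rw [hRdef, Subgroup.map_eq_bot_iff_of_injective _ H.subtype_injective] at hR0
    have hHp : IsPGroup p H := by
      obtain ⟨k, hk⟩ := H5.exists_index_pResidual_eq (G := H) (p := p)
      rw [hR0, Subgroup.index_bot] at hk
      exact IsPGroup.of_card hk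
    exact P.3 hHp hPH
  -- Step 5: the quotient `Qb ⋊ Pb`
  have hcompl : Qb.IsComplement' (Pb : Subgroup (G ⧸ U)) := H5.pResidual_isComplement' hQb Pb
  have hQn : Qb.Normal := inferInstance
  have hQne : Qb ≠ ⊥ := by
    intro h0
    refine hG (H5.hasNormalPComplement_of_isPGroup ?_)
    have h1 : IsPGroup p (G ⧸ U) := by
      obtain ⟨k, hk⟩ := H5.exists_index_pResidual_eq (G := G ⧸ U) (p := p)
      rw [← hQbdef, h0, Subgroup.index_bot] at hk
      exact IsPGroup.of_card hk
    obtain ⟨a, ha⟩ := IsPGroup.iff_card.mp hU.2.1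
    obtain ⟨b, hb⟩ := IsPGroup.iff_card.mp h1
    exact IsPGroup.of_card (n := b + a)
      (by rw [Subgroup.card_eq_card_quotient_mul_card_subgroup U, ha, hb, pow_add])
  have hinv : ∀ D : Subgroup (G ⧸ U), D ≤ Qb →
      (Pb : Subgroup (G ⧸ U)) ≤ Subgroup.normalizer (D : Set (G ⧸ U)) → D = ⊥ ∨ D = Qb := by
    intro D hDQ hPD
    by_cases hT : D ⊔ (Pb : Subgroup (G ⧸ U)) = ⊤
    · right
      refine Subgroup.eq_of_le_of_card_ge hDQ ?_
      have h1 := congrArg (fun T : Subgroup (G ⧸ U) => Nat.card T) hT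
      simp only [Subgroup.card_top] at h1
      rw [card_sup_of_coprime hPD (coprime_card_of_isPGroup
        (hQbp.coprime_dvd_left (Subgroup.card_dvd_of_le hDQ)) Pb.2), ← hcompl.card_mul_card] at h1
      exact (Nat.eq_of_mul_eq_mul_right Nat.card_pos h1).ge
    · left
      set T := D ⊔ (Pb : Subgroup (G ⧸ U))
      set H := T.comap (QuotientGroup.mk' U)
      have hHmap : H.map (QuotientGroup.mk' U) = T :=
        Subgroup.map_comap_eq_self_of_surjective (QuotientGroup.mk'_surjective U) T
      have hPH : (P : Subgroup G) ≤ H := by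
        rw [← Subgroup.map_le_iff_le_comap, ← Sylow.coe_mapSurjective (QuotientGroup.mk'_surjective U)]
        exact le_sup_right
      have hH : H = (P : Subgroup G) := hmaxP H hPH fun h => hT (by
        rw [← hHmap, h]
        exact Subgroup.map_top_of_surjective _ (QuotientGroup.mk'_surjective U))
      have hDP : D ≤ (Pb : Subgroup (G ⧸ U)) := by
        rw [hPb, Sylow.coe_mapSurjective, ← hH, hHmap]
        exact le_sup_left
      exact le_bot_iff.mp ((le_inf hDQ hDP).trans hcompl.disjoint.le_bot)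
  obtain ⟨r, hr, hrd⟩ := Nat.exists_prime_and_dvd
    (fun h => hQne (Subgroup.card_eq_one.mp h) : Nat.card Qb ≠ 1)
  have := Fact.mk hr
  obtain ⟨R, hRinv⟩ := exists_invariant_sylow (A := (Pb : Subgroup (G ⧸ U))) (K := Qb)
    Subgroup.le_normalizer_of_normal (coprime_card_of_isPGroup hQbp Pb.2).symm
    (Or.inl (by have := Pb.2.isNilpotent; infer_instance)) r
  have hRtop : (R : Subgroup Qb).map Qb.subtype = Qb := by
    refine (hinv _ (Subgroup.map_subtype_le _) hRinv).resolve_left ?_
    rw [Subgroup.map_eq_bot_iff_of_injective _ Qb.subtype_injective]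
    exact R.ne_bot_of_dvd_card hrd
  have hQr : IsPGroup r Qb := hRtop ▸ R.2.map Qb.subtype
  have hQc : IsMulCommutative Qb := by
    have := hQr.isNilpotent
    have := (Subgroup.nontrivial_iff_ne_bot Qb).mpr hQne
    have hlt : ⁅Qb, Qb⁆ < Qb := by
      have h1 := Subgroup.map_subtype_lt_map_subtype.mpr
        (Group.IsSolvable.commutator_lt_top_of_nontrivial (G := Qb))
      rwa [Subgroup.map_subtype_commutator, ← MonoidHom.range_eq_map, Subgroup.range_subtype] at h1
    have h0 : ⁅Qb, Qb⁆ = ⊥ := (hinv _ hlt.le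
      (le_normalizer_commutator Subgroup.le_normalizer_of_normal)).resolve_right hlt.ne
    rw [Subgroup.commutator_eq_bot_iff_le_centralizer] at h0
    exact Subgroup.le_centralizer_iff_isMulCommutative.mp h0
  have hnop : ∀ X : Subgroup (G ⧸ U), X.Normal → IsPGroup p X → X = ⊥ := by
    intro X hXn hX
    have : (X.comap (QuotientGroup.mk' U)).Normal := hXn.comap _
    have h1 : X.comap (QuotientGroup.mk' U) ≤ Cfsg.pCore p G :=
      le_pCore (hX.comap_of_ker_isPGroup _ (by rw [QuotientGroup.ker_mk']; exact hU.2.1))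
    rw [hOU] at h1
    rw [← Subgroup.map_comap_eq_self_of_surjective (QuotientGroup.mk'_surjective U) X,
      Subgroup.map_eq_bot_iff, QuotientGroup.ker_mk']
    exact h1
  have hCQ : Subgroup.centralizer (Qb : Set (G ⧸ U)) ≤ Qb := by
    set C := Subgroup.centralizer (Qb : Set (G ⧸ U))
    have hCn : C.Normal := Subgroup.normal_centralizer
    set X := C ⊓ (Pb : Subgroup (G ⧸ U))
    have hX0 : X = ⊥ := by
      refine hnop X ?_ Pb.2.to_inf_right
      rw [← Subgroup.normalizer_eq_top_iff, ← top_le_iff, ← hcompl.sup_eq_top]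
      exact sup_le ((Subgroup.le_centralizer_iff.mp inf_le_left).trans
          (Subgroup.centralizer_le_normalizer _))
        ((le_inf Subgroup.le_normalizer_of_normal Subgroup.le_normalizer).trans
          Subgroup.inf_normalizer_le_normalizer_inf)
    intro x hx
    obtain ⟨q, hq, y, hy, rfl⟩ := exists_mul_of_mem_sup
      (Subgroup.le_normalizer_of_normal (H := Qb) (K := (Pb : Subgroup (G ⧸ U))))
      (hcompl.sup_eq_top ▸ Subgroup.mem_top x)
    have hqC : q ∈ C := Subgroup.le_centralizer_iff_isMulCommutative.mpr hQc hq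
    have hyX : y ∈ X := Subgroup.mem_inf.mpr ⟨by simpa using mul_mem (inv_mem hqC) hx, hy⟩
    rw [hX0, Subgroup.mem_bot] at hyX
    rwa [hyX, mul_one]
  -- Step 6: `V = Ω₁(Z(U))`
  set Z := U ⊓ Subgroup.centralizer (U : Set G) with hZ
  have hZc : IsMulCommutative Z :=
    ⟨⟨fun a b => Subtype.ext (Subgroup.mem_centralizer_iff.mp (Subgroup.mem_inf.mp b.2).2 _
      (Subgroup.mem_inf.mp a.2).1)⟩⟩
  have hZn : Z.Normal :=
    have : (Subgroup.centralizer (U : Set G)).Normal := Subgroup.normal_centralizer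
    Subgroup.normal_inf_normal _ _
  let V : Subgroup G :=
    { carrier := {x | x ∈ Z ∧ x ^ p = 1}
      one_mem' := ⟨one_mem _, one_pow _⟩
      mul_mem' := fun {a b} ha hb => ⟨mul_mem ha.1 hb.1, by
        have hab : Commute a b := congrArg Subtype.val (hZc.is_comm.comm ⟨a, ha.1⟩ ⟨b, hb.1⟩)
        rw [hab.mul_pow, ha.2, hb.2, one_mul]⟩
      inv_mem' := fun {a} ha => ⟨inv_mem ha.1, by rw [inv_pow, ha.2, inv_one]⟩ }
  have hVn : V.Normal := ⟨fun x hx g => ⟨hZn.conj_mem x hx.1 g, by
    rw [conj_pow, hx.2, mul_one, mul_inv_cancel]⟩⟩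
  have hVU : V ≤ U := fun x hx => (Subgroup.mem_inf.mp hx.1).1
  have hUCV : U ≤ Subgroup.centralizer (V : Set G) :=
    Subgroup.le_centralizer_iff.mp fun x hx => (Subgroup.mem_inf.mp hx.1).2
  set C := Subgroup.centralizer (V : Set G)
  have hCn : C.Normal := Subgroup.normal_centralizer
  set Cb := C.map (QuotientGroup.mk' U) with hCb
  have hCbn : Cb.Normal := hCn.map _ (QuotientGroup.mk'_surjective U)
  have hCback : Cb.comap (QuotientGroup.mk' U) = C := by
    rw [hCb, Subgroup.comap_map_eq, QuotientGroup.ker_mk', sup_eq_left.mpr hUCV]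
  rcases hinv (Cb ⊓ Qb) inf_le_right Subgroup.le_normalizer_of_normal with hbot | htop
  · -- faithful action: no offender
    have hCU : C = U := by
      have h1 : Cb ≤ Qb := le_trans (fun c hc => Subgroup.mem_centralizer_iff.mpr fun q hq =>
        (Subgroup.commute_of_normal_of_disjoint Cb Qb hCbn hQn (disjoint_iff.mpr hbot) c q hc hq).eq.symm)
        hCQ
      refine le_antisymm ?_ hUCV
      rw [← hCback, ← inf_eq_left.mpr h1, hbot, MonoidHom.comap_bot, QuotientGroup.ker_mk']
    by_cases hJ : ∀ A ∈ H11.maxFam (fun A : Subgroup G => IsMulCommutative A)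
        (P : Subgroup G), A ≤ U
    · refine hG (npc_of_eq_top ?_ hN)
      have hJU : Cfsg.thompsonSubgroupAOf (P : Subgroup G) = Cfsg.thompsonSubgroupAOf U := by
        rw [H11.thompsonSubgroupAOf_eq, H11.thompsonSubgroupAOf_eq]
        congr 1
        refine Set.Subset.antisymm (fun A hA => H11.mem_maxFam_of_mem hUP hA (hJ A hA)) ?_
        obtain ⟨A, hA⟩ := H11.maxFam_nonempty
          (P := fun A : Subgroup G => IsMulCommutative A) H11.isMulCommutative_bot
          (P : Subgroup G)
        exact H11.maxFam_subset_of_mem hUP hA (hJ A hA)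
      rw [hJU, ← top_le_iff]
      exact (Subgroup.normalizer_eq_top U).ge.trans (normalizer_le_normalizer_JA U)
    · push Not at hJ
      obtain ⟨A, hA, hAU⟩ := hJ
      exact no_offender hp P U hUP V hVU (fun v hv => hv.2) hCU Qb hQc hQbp hQr hCQ hA hAU
  · -- then `Z(P)` is central
    refine hG (npc_of_eq_top ?_ hC)
    set ZP := (P : Subgroup G) ⊓ Subgroup.centralizer ((P : Subgroup G) : Set G)
    have hZPZ : ZP ≤ Z := by
      intro z hz
      have h2 : z ∈ Subgroup.centralizer (U : Set G) :=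
        Subgroup.centralizer_le hUP (Subgroup.mem_inf.mp hz).2
      exact Subgroup.mem_inf.mpr ⟨hCU h2, h2⟩
    have hres : Cfsg.pResidual p G ≤ Subgroup.centralizer (Z : Set G) := by
      refine (Subgroup.closure_le _).mpr fun g hg => ?_
      have hgC : g ∈ C := by
        have h1 : (g : G ⧸ U) ∈ Cb := by
          refine (inf_le_left : Cb ⊓ Qb ≤ Cb) ?_
          rw [htop]
          refine H5.mem_pResidual_of_coprime (Nat.Coprime.coprime_dvd_left ?_ hg)
          exact orderOf_map_dvd (QuotientGroup.mk' U) g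
        rw [← hCback]
        exact h1
      have hgle : Subgroup.zpowers g ≤ Subgroup.centralizer (Z : Set G) := by
        refine le_centralizer_of_fixes_pow_eq_one hZc (hU.2.1.to_le inf_le_left)
          Subgroup.le_normalizer_of_normal ?_ ?_
        · rw [Nat.card_zpowers]; exact hg
        · intro z hz hzp q hq
          have hzV : z ∈ V := ⟨hz, hzp⟩
          exact (Subgroup.mem_centralizer_iff.mp (Subgroup.zpowers_le.mpr hgC hq) z hzV).symm
      exact hgle (Subgroup.mem_zpowers g)
    rw [← top_le_iff, ← H5.pResidual_sup_sylow P]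
    exact sup_le (hres.trans (Subgroup.centralizer_le hZPZ))
      (Subgroup.le_centralizer_iff.mp inf_le_right)


end H74.JA
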