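import Cfsg.Agent.H74.SL2
import Cfsg.Prelude.Def_LocalEven

/-!
The groups `Qd` over a finite field.
-/

set_option autoImplicit false

namespace H74.Qd

open Matrix

variable {F : Type*} [Field F]

/-- The last row is `(0, 0, 1)`. -/
def affine (F : Type*) [Field F] : Submonoid (Matrix.SpecialLinearGroup (Fin 3) F) where
  carrier := {M | (M : Matrix (Fin 3) (Fin 3) F) 2 0 = 0 ∧
    (M : Matrix (Fin 3) (Fin 3) F) 2 1 = 0 ∧ (M : Matrix (Fin 3) (Fin 3) F) 2 2 = 1}
  one_mem' := by simp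
  mul_mem' := by
    rintro a b ⟨a0, a1, a2⟩ ⟨b0, b1, b2⟩
    refine ⟨?_, ?_, ?_⟩ <;>
      simp [Matrix.mul_apply, Fin.sum_univ_three, a0, a1, a2, b0, b1, b2]

variable [Fintype F]

theorem mem_qdOver {M : Matrix.SpecialLinearGroup (Fin 3) F} :
    M ∈ Cfsg.qdOver F ↔ M ∈ affine F := by
  refine ⟨fun h => ?_, fun h => Subgroup.subset_closure h⟩
  have h' : M ∈ (Cfsg.qdOver F).toSubmonoid := h
  rw [Cfsg.qdOver, Subgroup.closure_toSubmonoid_of_finite] at h'
  exact (Submonoid.closure_le (S := affine F)).mpr (le_refl _) h'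

/-- Matrix of a member of `Qd`. -/
abbrev mat (M : Cfsg.qdOver F) : Matrix (Fin 3) (Fin 3) F :=
  ((M : Matrix.SpecialLinearGroup (Fin 3) F) : Matrix (Fin 3) (Fin 3) F)

theorem last_row (M : Cfsg.qdOver F) : mat M 2 0 = 0 ∧ mat M 2 1 = 0 ∧ mat M 2 2 = 1 :=
  mem_qdOver.mp M.2

theorem mat_mul (M N : Cfsg.qdOver F) : mat (M * N) = mat M * mat N := rfl

/-- The linear part. -/
def lin : Cfsg.qdOver F →* Matrix.SpecialLinearGroup (Fin 2) F :=
  MonoidHom.mk' (fun M => ⟨!![mat M 0 0, mat M 0 1; mat M 1 0, mat M 1 1], by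
      obtain ⟨h0, h1, h2⟩ := last_row M
      have h := (M : Matrix.SpecialLinearGroup (Fin 3) F).2
      rw [Matrix.det_fin_three] at h
      change mat M 0 0 * mat M 1 1 * mat M 2 2 - mat M 0 0 * mat M 1 2 * mat M 2 1 -
        mat M 0 1 * mat M 1 0 * mat M 2 2 + mat M 0 1 * mat M 1 2 * mat M 2 0 +
        mat M 0 2 * mat M 1 0 * mat M 2 1 - mat M 0 2 * mat M 1 1 * mat M 2 0 = 1 at h
      rw [h0, h1, h2] at h
      rw [Matrix.det_fin_two]
      simpa using h⟩)
    (fun M N => by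
      obtain ⟨h0, h1, -⟩ := last_row N
      apply Subtype.ext
      change _ = !![mat M 0 0, mat M 0 1; mat M 1 0, mat M 1 1] *
        !![mat N 0 0, mat N 0 1; mat N 1 0, mat N 1 1]
      ext i j
      fin_cases i <;> fin_cases j <;>
        simp [mat_mul, Matrix.mul_apply, Fin.sum_univ_two, Fin.sum_univ_three, h0, h1])

theorem coe_lin (M : Cfsg.qdOver F) : (lin M : Matrix (Fin 2) (Fin 2) F) =
    !![mat M 0 0, mat M 0 1; mat M 1 0, mat M 1 1] := rfl

/-- The translation part. -/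
def vec (M : Cfsg.qdOver F) : Fin 2 → F := ![mat M 0 2, mat M 1 2]

theorem vec_mul (M N : Cfsg.qdOver F) :
    vec (M * N) = (lin M : Matrix (Fin 2) (Fin 2) F).mulVec (vec N) + vec M := by
  obtain ⟨-, -, h2⟩ := last_row N
  funext i
  fin_cases i <;>
    simp [vec, coe_lin, mat_mul, Matrix.mul_apply, Fin.sum_univ_three, h2, Matrix.mulVec,
      dotProduct, Fin.sum_univ_two] <;> ring

theorem vec_one : vec (1 : Cfsg.qdOver F) = 0 := by
  funext i
  fin_cases i <;> simp [vec, mat]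

theorem ext_lin_vec {M N : Cfsg.qdOver F} (h1 : lin M = lin N) (h2 : vec M = vec N) : M = N := by
  obtain ⟨a0, a1, a2⟩ := last_row M
  obtain ⟨b0, b1, b2⟩ := last_row N
  have e := congrArg (fun A : Matrix.SpecialLinearGroup (Fin 2) F =>
    (A : Matrix (Fin 2) (Fin 2) F)) h1
  have e00 := congrFun (congrFun e 0) 0
  have e01 := congrFun (congrFun e 0) 1
  have e10 := congrFun (congrFun e 1) 0
  have e11 := congrFun (congrFun e 1) 1
  have f0 := congrFun h2 0
  have f1 := congrFun h2 1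
  simp only [coe_lin] at e00 e01 e10 e11
  simp [vec] at f0 f1
  apply Subtype.ext
  apply Subtype.ext
  change mat M = mat N
  ext i j
  fin_cases i <;> fin_cases j <;> simp_all

/-- The element with linear part `A` and translation part `t`. -/
def mk (A : Matrix.SpecialLinearGroup (Fin 2) F) (t : Fin 2 → F) : Cfsg.qdOver F :=
  ⟨⟨!![(A : Matrix (Fin 2) (Fin 2) F) 0 0, (A : Matrix (Fin 2) (Fin 2) F) 0 1, t 0;
      (A : Matrix (Fin 2) (Fin 2) F) 1 0, (A : Matrix (Fin 2) (Fin 2) F) 1 1, t 1; 0, 0, 1], by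
      have h := A.2
      rw [Matrix.det_fin_two] at h
      simp [Matrix.det_fin_three, h]⟩, mem_qdOver.mpr ⟨by simp, by simp, by simp⟩⟩

@[simp] theorem lin_mk (A : Matrix.SpecialLinearGroup (Fin 2) F) (t : Fin 2 → F) :
    lin (mk A t) = A := by
  apply Subtype.ext
  ext i j
  fin_cases i <;> fin_cases j <;> simp [coe_lin, mk, mat]

@[simp] theorem vec_mk (A : Matrix.SpecialLinearGroup (Fin 2) F) (t : Fin 2 → F) :
    vec (mk A t) = t := by
  funext i
  fin_cases i <;> simp [vec, mk, mat]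

theorem mk_mul (A B : Matrix.SpecialLinearGroup (Fin 2) F) (s t : Fin 2 → F) :
    mk A s * mk B t = mk (A * B) ((A : Matrix (Fin 2) (Fin 2) F).mulVec t + s) :=
  ext_lin_vec (by simp) (by simp [vec_mul])

theorem mk_lin_vec (M : Cfsg.qdOver F) : mk (lin M) (vec M) = M :=
  ext_lin_vec (by simp) (by simp)

theorem conj_translation (M : Cfsg.qdOver F) (t : Fin 2 → F) :
    M * mk 1 t * M⁻¹ = mk 1 ((lin M : Matrix (Fin 2) (Fin 2) F).mulVec t) := by
  rw [mul_inv_eq_iff_eq_mul]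
  refine ext_lin_vec (by simp) ?_
  simp [vec_mul, add_comm]

theorem card_qdOver : Nat.card (Cfsg.qdOver F) =
    Nat.card (Matrix.SpecialLinearGroup (Fin 2) F) * Fintype.card F ^ 2 := by
  let e : Cfsg.qdOver F ≃ Matrix.SpecialLinearGroup (Fin 2) F × (Fin 2 → F) :=
    { toFun := fun M => (lin M, vec M)
      invFun := fun x => mk x.1 x.2
      left_inv := mk_lin_vec
      right_inv := fun x => by simp }
  rw [Nat.card_congr e, Nat.card_prod]
  congr 1
  rw [Nat.card_eq_fintype_card, Fintype.card_fun, Fintype.card_fin]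

theorem isPGroup_ker_lin {p : ℕ} [Fact p.Prime] [CharP F p] :
    IsPGroup p (lin (F := F)).ker := by
  intro x
  refine ⟨1, Subtype.ext ?_⟩
  have hl : lin (x : Cfsg.qdOver F) = 1 := x.2
  have key : ∀ k : ℕ, (x : Cfsg.qdOver F) ^ k = mk 1 (k • vec (x : Cfsg.qdOver F)) := by
    intro k
    induction k with
    | zero => exact ext_lin_vec (by simp) (by simp [vec_one])
    | succ k ih =>
      rw [pow_succ, ih]
      refine ext_lin_vec (by simp [hl]) ?_
      simp [vec_mul, add_smul, add_comm]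
  rw [pow_one]
  change (x : Cfsg.qdOver F) ^ p = 1
  rw [key]
  refine ext_lin_vec (by simp) ?_
  rw [vec_mk, vec_one]
  funext i
  simp [CharP.cast_eq_zero F p]

theorem pCore_eq_ker {p : ℕ} [Fact p.Prime] [CharP F p] :
    Cfsg.pCore p (Cfsg.qdOver F) = (lin (F := F)).ker := by
  refine le_antisymm ?_ (le_sSup ⟨inferInstance, isPGroup_ker_lin⟩)
  have hs : Function.Surjective (lin (F := F)) := fun A => ⟨mk A 0, lin_mk A 0⟩
  have h : (Cfsg.pCore p (Cfsg.qdOver F)).map lin ≤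
      Cfsg.pCore p (Matrix.SpecialLinearGroup (Fin 2) F) := by
    rw [Cfsg.pCore, Subgroup.map_le_iff_le_comap, sSup_le_iff]
    rintro N ⟨hN, hNp⟩
    rw [← Subgroup.map_le_iff_le_comap]
    exact le_sSup ⟨hN.map _ hs, hNp.map _⟩
  rw [SL2.pCore_eq_bot F, le_bot_iff, Subgroup.map_eq_bot_iff] at h
  exact h

/-- Unitriangular element. -/
abbrev el (x : F) (t : Fin 2 → F) : Cfsg.qdOver F := mk (SL2.uT x) t

theorem el_mul (x y : F) (s t : Fin 2 → F) :
    el x s * el y t = el (x + y) ![t 0 + x * t 1 + s 0, t 1 + s 1] := by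
  rw [mk_mul, ← SL2.uT_add]
  congr 1
  funext i
  fin_cases i <;> simp [SL2.coe_uT, Matrix.mulVec, dotProduct, Fin.sum_univ_two]

end H74.Qd
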