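import Cfsg.Agent.H56.G2Map

/-!
Eigenspaces of semisimple automorphisms of the split octonions: elements of order five that are
conjugate to their squares, and the abelianness of Sylow subgroups for the primes five and seven.
-/

set_option autoImplicit false
set_option linter.all false

namespace H74.G2S

open Cfsg.Lie Matrix H18 H55.G2
open scoped Classical commutatorElement

theorem inf_center_ne_bot {G : Type*} [Group G] [Finite G] {ℓ : ℕ} [Fact ℓ.Prime] (hG : IsPGroup ℓ G)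
    {N : Subgroup G} [N.Normal] (hN : N ≠ ⊥) : N ⊓ Subgroup.center G ≠ ⊥ := by
  classical
  haveI : Nontrivial ↥N := (Subgroup.nontrivial_iff_ne_bot N).2 hN
  obtain ⟨n, hn, hcard⟩ := (hG.to_subgroup N).nontrivial_iff_card.1 inferInstance
  have hdvd : ℓ ∣ Nat.card ↥N := hcard ▸ dvd_pow_self ℓ (by omega)
  let act : MulAction (ConjAct G) ↥N := inferInstance
  have h1 : (1 : ↥N) ∈ MulAction.fixedPoints (ConjAct G) ↥N := fun c => Subtype.ext (smul_one c)
  obtain ⟨z, hz, hne⟩ :=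
    (hG.of_equiv (ConjAct.toConjAct (G := G))).exists_fixed_point_of_prime_dvd_card_of_fixed_point
      ↥N hdvd h1
  intro hbot
  refine hne (Subtype.ext ?_)
  have hm : (z : G) ∈ N ⊓ Subgroup.center G := by
    refine ⟨z.2, Subgroup.mem_center_iff.2 fun c => ?_⟩
    have e : c * (z : G) * c⁻¹ = z := congrArg Subtype.val (hz (ConjAct.toConjAct c))
    exact mul_inv_eq_iff_eq_mul.1 e
  rw [hbot, Subgroup.mem_bot] at hm
  exact hm.symm

variable {K : Type*} [Field K]

/-- The eigenspace of an automorphism. -/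
noncomputable def eig (g : G2 K) (μ : K) : Submodule K (Fin 8 → K) :=
  LinearMap.ker (g2Lin g - μ • LinearMap.id)

theorem mem_eig {g : G2 K} {μ : K} {v : Fin 8 → K} : v ∈ eig g μ ↔ g2App g v = μ • v := by
  rw [eig, LinearMap.mem_ker, LinearMap.sub_apply, sub_eq_zero]
  rfl

theorem pow_app {g : G2 K} {μ : K} {v : Fin 8 → K} (hv : g2App g v = μ • v) (k : ℕ) :
    g2App (g ^ k) v = μ ^ k • v := by
  induction k with
  | zero => rw [pow_zero, pow_zero, g2App_one, one_smul]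
  | succ k ih => rw [pow_succ, g2App_mul, hv, g2App_smul, ih, smul_smul, pow_succ, mul_comm]

theorem opol_zero_right (v : Fin 8 → K) : opol v 0 = 0 := by simp [opol, dot3]

theorem opol_smul_right (t : K) (v w : Fin 8 → K) : opol v (t • w) = t * opol v w := by
  rw [opol_comm, opol_smul_left, opol_comm]

theorem opol_add_right (u v w : Fin 8 → K) : opol u (v + w) = opol u v + opol u w := by
  rw [opol_comm, opol_add_left, opol_comm v, opol_comm w]

theorem opol_sum_right {ι : Type*} (s : Finset ι) (v : Fin 8 → K) (f : ι → Fin 8 → K) :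
    opol v (∑ i ∈ s, f i) = ∑ i ∈ s, opol v (f i) :=
  map_sum (AddMonoidHom.mk' (opol v) (opol_add_right v)) f s

/-- A subspace on which the polar form is non-degenerate. -/
def Nondeg (S : Submodule K (Fin 8 → K)) : Prop := ∀ v ∈ S, (∀ w ∈ S, opol v w = 0) → v = 0

theorem nondeg_top : Nondeg (⊤ : Submodule K (Fin 8 → K)) := fun _ _ h =>
  eq_zero_of_opol fun w => h w Submodule.mem_top

theorem opol_eig_eq_zero {g : G2 K} {μ ν : K} (h : μ * ν ≠ 1) {v w : Fin 8 → K} (hv : v ∈ eig g μ)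
    (hw : w ∈ eig g ν) : opol v w = 0 := by
  have e := opol_map g v w
  rw [mem_eig.1 hv, mem_eig.1 hw, opol_smul_left, opol_smul_right] at e
  by_contra hne
  exact h (mul_right_cancel₀ hne (by rw [one_mul, mul_assoc]; exact e))

section root

variable {n : ℕ} {g : G2 K} {ω : K} {S : Submodule K (Fin 8 → K)}
variable (hg : g ^ n = 1) (hn : (n : K) ≠ 0) (hω : IsPrimitiveRoot ω n) (hS : ∀ v ∈ S, g2App g v ∈ S)

/-- The projection to an eigenspace. -/
noncomputable def proj (n : ℕ) (g : G2 K) (ω : K) (i : ℕ) : (Fin 8 → K) →ₗ[K] (Fin 8 → K) :=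
  (n : K)⁻¹ • ∑ j ∈ Finset.range n, (ω⁻¹ ^ i) ^ j • g2Lin (g ^ j)

theorem proj_apply (i : ℕ) (v : Fin 8 → K) :
    proj n g ω i v = (n : K)⁻¹ • ∑ j ∈ Finset.range n, (ω⁻¹ ^ i) ^ j • g2App (g ^ j) v := by
  rw [proj, LinearMap.smul_apply, LinearMap.sum_apply]
  rfl

include hS in
theorem pow_mem_of_mem {v : Fin 8 → K} (hv : v ∈ S) (j : ℕ) : g2App (g ^ j) v ∈ S := by
  induction j with
  | zero => rwa [pow_zero, g2App_one]
  | succ j ih => rw [pow_succ', g2App_mul]; exact hS _ ih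

include hS in
theorem proj_mem {v : Fin 8 → K} (hv : v ∈ S) (i : ℕ) : proj n g ω i v ∈ S := by
  rw [proj_apply]
  exact S.smul_mem _ (S.sum_mem fun j _ => S.smul_mem _ (pow_mem_of_mem hS hv j))

include hn hω in
theorem sum_pow_root {ζ : K} (hζ : ζ ^ n = 1) :
    (∑ j ∈ Finset.range n, ζ ^ j) = if ζ = 1 then (n : K) else 0 := by
  split_ifs with h
  · simp [h]
  · rw [geom_sum_eq h, hζ, sub_self, zero_div]

include hg hω in
theorem proj_mem_eig (i : ℕ) (v : Fin 8 → K) : proj n g ω i v ∈ eig g (ω ^ i) := by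
  by_cases h0 : n = 0
  · subst h0
    rw [proj_apply]
    simp
  have hω0 : ω ≠ 0 := hω.ne_zero h0
  set ζ := ω⁻¹ ^ i with hζ
  have hζi : ω ^ i * ζ = 1 := by rw [hζ, ← mul_pow, mul_inv_cancel₀ hω0, one_pow]
  have hζn : ζ ^ n = 1 := by
    rw [hζ, ← pow_mul, mul_comm, pow_mul, inv_pow, hω.pow_eq_one, inv_one, one_pow]
  rw [mem_eig, proj_apply, ← hζ]
  show g2Lin g _ = _
  rw [map_smul, map_sum, smul_comm (ω ^ i)]
  congr 1
  rw [Finset.smul_sum]
  set f : ℕ → Fin 8 → K := fun j => (ω ^ i * ζ ^ j) • g2App (g ^ j) v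
  have e : ∀ j, g2Lin g (ζ ^ j • g2App (g ^ j) v) = f (j + 1) := fun j => by
    rw [map_smul]
    show ζ ^ j • g2App g (g2App (g ^ j) v) = _
    simp only [f]
    rw [← g2App_mul, ← pow_succ',
      show ω ^ i * ζ ^ (j + 1) = ζ ^ j by rw [pow_succ', ← mul_assoc, hζi, one_mul]]
  rw [Finset.sum_congr rfl fun j _ => e j]
  have e2 : ∀ j, ω ^ i • (ζ ^ j • g2App (g ^ j) v) = f j := fun j => smul_smul _ _ _
  rw [Finset.sum_congr rfl fun j _ => e2 j]
  have h1 := Finset.sum_range_succ' f n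
  rw [Finset.sum_range_succ f n] at h1
  have h2 : f n = f 0 := by simp [f, hζn, hg]
  rw [h2] at h1
  exact add_right_cancel h1.symm

include hn hω in
theorem proj_eig {i j : ℕ} (hi : i < n) (hj : j < n) {w : Fin 8 → K} (hw : w ∈ eig g (ω ^ j)) :
    proj n g ω i w = if i = j then w else 0 := by
  have hω0 : ω ≠ 0 := hω.ne_zero (by omega)
  rw [proj_apply]
  have e : ∀ k, (ω⁻¹ ^ i) ^ k • g2App (g ^ k) w = (ω⁻¹ ^ i * ω ^ j) ^ k • w := fun k => by
    rw [pow_app (mem_eig.1 hw), smul_smul, mul_pow]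
  rw [Finset.sum_congr rfl fun k _ => e k, ← Finset.sum_smul, sum_pow_root hn hω]
  · have hiff : ω⁻¹ ^ i * ω ^ j = 1 ↔ i = j := by
      rw [inv_pow, inv_mul_eq_one₀ (pow_ne_zero _ hω0)]
      exact ⟨fun h => hω.pow_inj hi hj h, fun h => h ▸ rfl⟩
    by_cases h : i = j
    · rw [if_pos (hiff.2 h), if_pos h, smul_smul, inv_mul_cancel₀ hn, one_smul]
    · rw [if_neg (mt hiff.1 h), if_neg h, zero_smul, smul_zero]
  · rw [mul_pow, ← pow_mul, mul_comm i, pow_mul, inv_pow, hω.pow_eq_one, inv_one, one_pow, one_mul,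
      ← pow_mul, mul_comm j, pow_mul, hω.pow_eq_one, one_pow]

include hn hω in
theorem sum_proj (v : Fin 8 → K) : ∑ i : Fin n, proj n g ω i v = v := by
  have h0 : n ≠ 0 := fun h => hn (by rw [h]; simp)
  have hω0 : ω ≠ 0 := hω.ne_zero h0
  simp only [proj_apply, ← Finset.smul_sum]
  rw [Finset.sum_comm]
  have e : ∀ j ∈ Finset.range n,
      (∑ i : Fin n, (ω⁻¹ ^ (i : ℕ)) ^ j • g2App (g ^ j) v) = if j = 0 then (n : K) • v else 0 := by
    intro j hj
    rw [← Finset.sum_smul, Fin.sum_univ_eq_sum_range (fun i => (ω⁻¹ ^ i) ^ j),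
      Finset.sum_congr rfl fun (i : ℕ) _ =>
        (show (ω⁻¹ ^ i) ^ j = (ω⁻¹ ^ j) ^ i by rw [← pow_mul, ← pow_mul, mul_comm]),
      sum_pow_root hn hω (by rw [← pow_mul, mul_comm, pow_mul, inv_pow, hω.pow_eq_one, inv_one, one_pow])]
    by_cases h : j = 0
    · subst h; simp [g2App_one]
    · rw [if_neg h, if_neg, zero_smul]
      rw [inv_pow, inv_eq_one]
      exact hω.pow_ne_one_of_pos_of_lt h (Finset.mem_range.1 hj)
  rw [Finset.sum_congr rfl e, Finset.sum_ite_eq' (Finset.range n) 0,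
    if_pos (Finset.mem_range.2 (Nat.pos_of_ne_zero h0)), smul_smul, inv_mul_cancel₀ hn, one_smul]

/-- The dimension of an eigenspace inside a stable subspace. -/
noncomputable def edim (g : G2 K) (S : Submodule K (Fin 8 → K)) (μ : K) : ℕ :=
  Module.finrank K ↥(S ⊓ eig g μ)

include hg hn hω hS in
theorem sum_edim : ∑ i : Fin n, edim g S (ω ^ (i : ℕ)) = Module.finrank K ↥S := by
  classical
  let E : Fin n → Submodule K (Fin 8 → K) := fun i => S ⊓ eig g (ω ^ (i : ℕ))
  let T : ↥S →ₗ[K] ((i : Fin n) → ↥(E i)) := LinearMap.pi fun i =>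
    ((proj n g ω i).comp S.subtype).codRestrict (E i) fun v =>
      ⟨proj_mem hS v.2 _, proj_mem_eig hg hω _ _⟩
  have hT : Function.Bijective T := by
    refine ⟨fun a b h => Subtype.ext ?_, fun w => ?_⟩
    · have e : ∀ i : Fin n, proj n g ω i (a : Fin 8 → K) = proj n g ω i b := fun i =>
        congrArg Subtype.val (congrFun h i)
      rw [← sum_proj (g := g) hn hω (a : Fin 8 → K), ← sum_proj (g := g) hn hω (b : Fin 8 → K)]
      exact Finset.sum_congr rfl fun i _ => e i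
    · refine ⟨⟨∑ i, (w i : Fin 8 → K), S.sum_mem fun i _ => (Submodule.mem_inf.1 (w i).2).1⟩,
        funext fun i => Subtype.ext ?_⟩
      show proj n g ω i (∑ j, (w j : Fin 8 → K)) = _
      rw [map_sum, Finset.sum_eq_single i]
      · rw [proj_eig hn hω i.2 i.2 (Submodule.mem_inf.1 (w i).2).2, if_pos rfl]
      · intro j _ hj
        rw [proj_eig hn hω i.2 j.2 (Submodule.mem_inf.1 (w j).2).2, if_neg]
        exact fun h => hj (Fin.ext h.symm)
      · simp
  rw [(LinearEquiv.ofBijective T hT).finrank_eq, Module.finrank_pi_fintype]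
  rfl

include hg hn hω hS in
theorem mem_sup_of_mem {v : Fin 8 → K} (hv : v ∈ S) (h : ∀ i, i < n → i ≠ 0 → edim g S (ω ^ i) = 0) :
    g2App g v = v := by
  have h0 : 0 < n := Nat.pos_of_ne_zero fun h => hn (by rw [h]; simp)
  have e : proj n g ω 0 v = v := by
    conv_rhs => rw [← sum_proj (g := g) hn hω v]
    rw [Finset.sum_eq_single (⟨0, h0⟩ : Fin n)]
    · intro i _ hi
      have hb := Submodule.finrank_eq_zero.1 (h i i.2 fun e => hi (Fin.ext e))
      have hm : proj n g ω i v ∈ S ⊓ eig g (ω ^ (i : ℕ)) :=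
        ⟨proj_mem hS hv _, proj_mem_eig hg hω _ _⟩
      rwa [hb, Submodule.mem_bot] at hm
    · simp
  have := mem_eig.1 (proj_mem_eig hg hω 0 v)
  rwa [e, pow_zero, one_smul] at this

include hg hn hω hS in
/-- The pairing of the eigenspaces of inverse roots is non-degenerate. -/
theorem eig_pairing (hnd : Nondeg S) {μ : K} (hμ : μ ^ n = 1) {v : Fin 8 → K}
    (hv : v ∈ S) (hve : v ∈ eig g μ) (h : ∀ w ∈ S, w ∈ eig g μ⁻¹ → opol v w = 0) : v = 0 := by
  refine hnd v hv fun w hw => ?_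
  rw [← sum_proj (g := g) hn hω w, opol_sum_right]
  refine Finset.sum_eq_zero fun i _ => ?_
  have hm := proj_mem_eig hg hω i w
  by_cases hi : μ * ω ^ (i : ℕ) = 1
  · rw [eq_inv_of_mul_eq_one_right hi] at hm
    exact h _ (proj_mem hS hw i) hm
  · exact opol_eig_eq_zero hi hve hm

include hg hn hω hS in
theorem edim_le_inv (hnd : Nondeg S) {μ : K} (hμ : μ ^ n = 1) :
    edim g S μ ≤ edim g S μ⁻¹ := by
  let A : Submodule K (Fin 8 → K) := S ⊓ eig g μ
  let B : Submodule K (Fin 8 → K) := S ⊓ eig g μ⁻¹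
  let L : ↥A →ₗ[K] Module.Dual K ↥B := LinearMap.mk₂ K (fun a b => opol (a : Fin 8 → K) b)
    (fun a a' b => opol_add_left _ _ _) (fun t a b => opol_smul_left _ _ _)
    (fun a b b' => opol_add_right _ _ _) (fun t a b => opol_smul_right _ _ _)
  have hL : Function.Injective L := (injective_iff_map_eq_zero L).2 fun a ha =>
    Subtype.ext (eig_pairing hg hn hω hS hnd hμ (Submodule.mem_inf.1 a.2).1
      (Submodule.mem_inf.1 a.2).2 fun w hw hwe => LinearMap.congr_fun ha (⟨w, hw, hwe⟩ : ↥B))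
  exact (LinearMap.finrank_le_finrank_of_injective hL).trans_eq Subspace.dual_finrank_eq

include hg hn hω hS in
theorem edim_inv (hnd : Nondeg S) {μ : K} (hμ : μ ^ n = 1) :
    edim g S μ⁻¹ = edim g S μ :=
  le_antisymm ((edim_le_inv hg hn hω hS hnd (by rw [inv_pow, hμ, inv_one])).trans_eq (by rw [inv_inv]))
    (edim_le_inv hg hn hω hS hnd hμ)

include hg hn hω hS in
/-- An eigenspace for a root equal to its inverse is non-degenerate. -/
theorem nondeg_eig (hnd : Nondeg S) {μ : K} (hμ : μ ^ n = 1) (hinv : μ⁻¹ = μ) :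
    Nondeg (S ⊓ eig g μ) := fun v hv h =>
  eig_pairing hg hn hω hS hnd hμ hv.1 hv.2 fun w hw hwe => h w ⟨hw, hinv ▸ hwe⟩

end root

theorem edim_le_conj {g a : G2 K} {S : Submodule K (Fin 8 → K)} (haS : ∀ v ∈ S, g2App a⁻¹ v ∈ S)
    {k : ℕ} (hconj : a * g * a⁻¹ = g ^ k) (μ : K) : edim g S μ ≤ edim g S (μ ^ k) := by
  let A : Submodule K (Fin 8 → K) := S ⊓ eig g μ
  let B : Submodule K (Fin 8 → K) := S ⊓ eig g (μ ^ k)
  have hm : ∀ v : ↥A, g2Lin a⁻¹ (v : Fin 8 → K) ∈ B := fun v => by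
    refine ⟨haS _ (Submodule.mem_inf.1 v.2).1, mem_eig.2 ?_⟩
    show g2App g (g2App a⁻¹ v) = μ ^ k • g2App a⁻¹ v
    rw [← g2App_mul, show g * a⁻¹ = a⁻¹ * g ^ k by rw [← hconj]; group, g2App_mul,
      pow_app (mem_eig.1 (Submodule.mem_inf.1 v.2).2), g2App_smul]
  refine LinearMap.finrank_le_finrank_of_injective
    (f := ((g2Lin a⁻¹).comp A.subtype).codRestrict B hm) fun v w e => Subtype.ext ?_
  have e' : g2App a⁻¹ (v : Fin 8 → K) = g2App a⁻¹ (w : Fin 8 → K) := congrArg Subtype.val e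
  have := congrArg (g2App a) e'
  rwa [← g2App_mul, ← g2App_mul, mul_inv_cancel, g2App_one, g2App_one] at this

theorem octOne_mem_eig (g : G2 K) : octOne K ∈ eig g 1 :=
  mem_eig.2 (by rw [g2App_octOne, one_smul])

theorem octOne_ne : octOne K ≠ 0 := fun e => by
  have := congrFun e 0
  simp [octOne, zVec] at this

/-- A totally isotropic subspace of a non-degenerate subspace has at most half the dimension. -/
theorem isotropic_bound {T W : Submodule K (Fin 8 → K)} (hW : W ≤ T) (hnd : Nondeg T)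
    (hiso : ∀ v ∈ W, ∀ w ∈ W, opol v w = 0) :
    2 * Module.finrank K ↥W ≤ Module.finrank K ↥T := by
  let L : ↥W →ₗ[K] Module.Dual K ↥T := LinearMap.mk₂ K (fun a b => opol (a : Fin 8 → K) b)
    (fun a a' b => opol_add_left _ _ _) (fun t a b => opol_smul_left _ _ _)
    (fun a b b' => opol_add_right _ _ _) (fun t a b => opol_smul_right _ _ _)
  have hL : Function.Injective L := (injective_iff_map_eq_zero L).2 fun a ha =>
    Subtype.ext (hnd _ (hW a.2) fun w hw => LinearMap.congr_fun ha (⟨w, hw⟩ : ↥T))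
  have hrange : LinearMap.range L ≤ (W.comap T.subtype).dualAnnihilator := by
    rintro _ ⟨a, rfl⟩
    exact (Submodule.mem_dualAnnihilator _).2 fun w hw => hiso _ a.2 _ hw
  have h1 := Submodule.finrank_mono hrange
  rw [LinearMap.finrank_range_of_inj hL] at h1
  have h2 := Subspace.finrank_add_finrank_dualAnnihilator_eq (W.comap T.subtype)
  rw [(Submodule.comapSubtypeEquivOfLe hW).finrank_eq] at h2
  omega

/-- No element of order five is conjugate to its square. -/
theorem no_five [IsAlgClosed K] (h5 : (5 : K) ≠ 0) {g a : G2 K} (hg : g ^ 5 = 1)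
    (hconj : a * g * a⁻¹ = g ^ 2) : g = 1 := by
  classical
  haveI : NeZero ((5 : ℕ) : K) := ⟨by exact_mod_cast h5⟩
  obtain ⟨ω, hω⟩ := HasEnoughRootsOfUnity.exists_primitiveRoot K 5
  have hn : ((5 : ℕ) : K) ≠ 0 := by exact_mod_cast h5
  have hS : ∀ v ∈ (⊤ : Submodule K (Fin 8 → K)), g2App g v ∈ (⊤ : Submodule K (Fin 8 → K)) :=
    fun _ _ => Submodule.mem_top
  set d : ℕ → ℕ := fun i => edim g ⊤ (ω ^ i) with hd
  have hmod : ∀ i, d i = d (i % 5) := fun i => by
    simp only [hd]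
    rw [pow_eq_pow_mod i hω.pow_eq_one]
  have hle : ∀ i, d i ≤ d (2 * i) := fun i => by
    simp only [hd]
    rw [mul_comm 2 i, pow_mul]
    exact edim_le_conj (fun _ _ => Submodule.mem_top) hconj _
  have e1 : d 2 = d 1 ∧ d 4 = d 1 ∧ d 3 = d 1 := by
    have a1 := hle 1; have a2 := hle 2; have a4 := hle 4; have a3 := hle 3
    rw [hmod (2 * 4)] at a4
    rw [hmod (2 * 3)] at a3
    norm_num at a1 a2 a3 a4
    omega
  have hsum := sum_edim hg hn hω hS
  rw [finrank_top, Module.finrank_fin_fun, Fin.sum_univ_five] at hsum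
  change d 0 + d 1 + d 2 + d 3 + d 4 = 8 at hsum
  have hd0 : 1 ≤ d 0 := by
    simp only [hd, pow_zero]
    refine Submodule.one_le_finrank_iff.2 fun hbot => octOne_ne (K := K) ?_
    have hm : octOne K ∈ (⊤ : Submodule K (Fin 8 → K)) ⊓ eig g 1 := ⟨Submodule.mem_top, octOne_mem_eig g⟩
    rwa [hbot, Submodule.mem_bot] at hm
  by_cases h1 : d 1 = 0
  · refine g2App_ext fun v => ?_
    rw [g2App_one]
    refine mem_sup_of_mem hg hn hω hS Submodule.mem_top fun i hi hi0 => ?_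
    show d i = 0
    interval_cases i <;> omega
  exfalso
  have h0 : d 0 = 4 ∧ d 1 = 1 := by omega
  let E0 : Submodule K (Fin 8 → K) := ⊤ ⊓ eig g 1
  let E1 : Submodule K (Fin 8 → K) := ⊤ ⊓ eig g ω
  have hE0 : Module.finrank K ↥E0 = 4 := by
    have := h0.1
    simp only [hd, pow_zero] at this
    exact this
  have hE1 : Module.finrank K ↥E1 = 1 := by
    have := h0.2
    simp only [hd, pow_one] at this
    exact this
  obtain ⟨v, hv, hv0⟩ := Submodule.exists_mem_ne_zero_of_ne_bot (p := E1) (fun e => by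
    rw [e, finrank_bot] at hE1; omega)
  have hm : ∀ q : ↥E0, zornMul (q : Fin 8 → K) v ∈ E1 := fun q => by
    refine ⟨Submodule.mem_top, mem_eig.2 ?_⟩
    rw [g2App_zornMul, mem_eig.1 (Submodule.mem_inf.1 q.2).2, mem_eig.1 (Submodule.mem_inf.1 hv).2,
      one_smul, mul_smul_right]
  let M : ↥E0 →ₗ[K] ↥E1 :=
    { toFun := fun q => ⟨zornMul (q : Fin 8 → K) v, hm q⟩
      map_add' := fun q q' => Subtype.ext (H56G2.zornMul_add_left' _ _ _)
      map_smul' := fun t q => Subtype.ext (mul_smul_left _ _ _) }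
  have hker : 3 ≤ Module.finrank K ↥(LinearMap.ker M) := by
    have h := LinearMap.finrank_range_add_finrank_ker M
    have h' := Submodule.finrank_le (LinearMap.range M)
    omega
  let W : Submodule K (Fin 8 → K) := (LinearMap.ker M).map E0.subtype
  have hWd : Module.finrank K ↥W = Module.finrank K ↥(LinearMap.ker M) :=
    Submodule.finrank_map_subtype_eq _ _
  have hnorm : ∀ q ∈ W, onm q = 0 := by
    rintro _ ⟨q, hq, rfl⟩
    have e : zornMul (q : Fin 8 → K) v = 0 := congrArg Subtype.val (LinearMap.mem_ker.1 hq)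
    have e2 := mul_alt (q : Fin 8 → K) v
    rw [mul_self_eq, sub_eq_add_neg, H56G2.zornMul_add_left', mul_smul_left, ← neg_smul,
      mul_smul_left, octOne_mul, e, smul_zero, zero_add,
      show zornMul (q : Fin 8 → K) (0 : Fin 8 → K) = 0 from (lmulL (q : Fin 8 → K)).map_zero] at e2
    exact neg_eq_zero.1 ((smul_eq_zero.1 e2.symm).resolve_right hv0)
  have hnd : Nondeg E0 := nondeg_eig hg hn hω hS nondeg_top (one_pow 5) inv_one
  have := isotropic_bound (T := E0) (W := W) (Submodule.map_subtype_le _ _) hnd fun a ha b hb => by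
    have := hnorm _ (W.add_mem ha hb)
    rwa [onm_add, hnorm a ha, hnorm b hb, zero_add, zero_add] at this
  omega

/-- An element of order seven conjugate to its square fixes a non-degenerate subspace of dimension
at most five on which both act. -/
theorem seven_fix [IsAlgClosed K] (h7 : (7 : K) ≠ 0) {g a : G2 K} (hg : g ^ 7 = 1)
    (hconj : a * g * a⁻¹ = g ^ 2) {S : Submodule K (Fin 8 → K)} (hnd : Nondeg S)
    (hS : ∀ v ∈ S, g2App g v ∈ S) (haS : ∀ v ∈ S, g2App a⁻¹ v ∈ S)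
    (hdim : Module.finrank K ↥S ≤ 5) : ∀ v ∈ S, g2App g v = v := by
  classical
  haveI : NeZero ((7 : ℕ) : K) := ⟨by exact_mod_cast h7⟩
  obtain ⟨ω, hω⟩ := HasEnoughRootsOfUnity.exists_primitiveRoot K 7
  have hn : ((7 : ℕ) : K) ≠ 0 := by exact_mod_cast h7
  set d : ℕ → ℕ := fun i => edim g S (ω ^ i) with hd
  have hmod : ∀ i, d i = d (i % 7) := fun i => by
    simp only [hd]
    rw [pow_eq_pow_mod i hω.pow_eq_one]
  have hle : ∀ i, d i ≤ d (2 * i) := fun i => by
    simp only [hd]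
    rw [mul_comm 2 i, pow_mul]
    exact edim_le_conj haS hconj _
  have h16 : d 6 = d 1 := by
    simp only [hd]
    rw [show ω ^ 6 = (ω ^ 1)⁻¹ from eq_inv_of_mul_eq_one_left (by rw [← pow_add]; exact hω.pow_eq_one)]
    exact edim_inv hg hn hω hS hnd (by rw [← pow_mul, one_mul]; exact hω.pow_eq_one)
  have hsum := sum_edim hg hn hω hS
  rw [Fin.sum_univ_seven] at hsum
  change d 0 + d 1 + d 2 + d 3 + d 4 + d 5 + d 6 = _ at hsum
  have a1 := hle 1; have a2 := hle 2; have a4 := hle 4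
  have a3 := hle 3; have a6 := hle 6; have a5 := hle 5
  rw [hmod (2 * 4)] at a4
  rw [hmod (2 * 6)] at a6
  rw [hmod (2 * 5)] at a5
  norm_num at a1 a2 a3 a4 a5 a6
  intro v hv
  refine mem_sup_of_mem hg hn hω hS hv fun i hi hi0 => ?_
  show d i = 0
  interval_cases i <;> omega

/-- A finite subgroup of prime power order `ℓ ^ k` is abelian for `ℓ ≥ 5` different from the characteristic. -/
theorem comm_of_isPGroup [IsAlgClosed K] {ℓ : ℕ} [Fact ℓ.Prime] (h5 : 5 ≤ ℓ) (hℓ : (ℓ : K) ≠ 0)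
    {P : Subgroup (G2 K)} [Finite ↥P] (hP : IsPGroup ℓ ↥P) : ∀ x y : ↥P, x * y = y * x := by
  classical
  by_contra hne
  have hC : (commutator ↥P) ≠ ⊥ := fun h => hne fun x y => by
    have hm : ⁅x, y⁆ ∈ commutator ↥P :=
      Subgroup.commutator_mem_commutator (Subgroup.mem_top _) (Subgroup.mem_top _)
    rw [h, Subgroup.mem_bot] at hm
    exact commutatorElement_eq_one_iff_mul_comm.1 hm
  have hC2 : ∃ z : ↥P, z ≠ 1 ∧ z ∈ commutator ↥P ∧ z ∈ Subgroup.center ↥P := by
    obtain ⟨x, hx⟩ := Subgroup.ne_bot_iff_exists_ne_one.1 (inf_center_ne_bot hP hC)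
    exact ⟨x.1, fun h => hx (Subtype.ext h), (Subgroup.mem_inf.1 x.2).1, (Subgroup.mem_inf.1 x.2).2⟩
  obtain ⟨z0, hz0, hzc0, hzz0⟩ := hC2
  obtain ⟨z, hzc, hzz, hzℓ, hz⟩ : ∃ z : ↥P, z ∈ commutator ↥P ∧ z ∈ Subgroup.center ↥P ∧ z ^ ℓ = 1 ∧ z ≠ 1 := by
    obtain ⟨m, hm⟩ := hP.dvd_orderOf hz0
    have hpos := orderOf_pos z0
    have hm0 : m ≠ 0 := fun h => by rw [h, mul_zero] at hm; omega
    refine ⟨z0 ^ m, pow_mem hzc0 m, pow_mem hzz0 m, ?_, pow_ne_one_of_lt_orderOf hm0 ?_⟩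
    · rw [← pow_mul, mul_comm, ← hm, pow_orderOf_eq_one]
    · rw [hm]
      exact lt_mul_left (Nat.pos_of_ne_zero hm0) (by omega)
  set g : G2 K := (z : G2 K) with hgdef
  have hg : g ^ ℓ = 1 := by
    rw [hgdef, ← SubgroupClass.coe_pow, hzℓ]; rfl
  haveI : NeZero (ℓ : K) := ⟨hℓ⟩
  obtain ⟨ω, hω⟩ := HasEnoughRootsOfUnity.exists_primitiveRoot K ℓ
  have hS : ∀ v ∈ (⊤ : Submodule K (Fin 8 → K)), g2App g v ∈ (⊤ : Submodule K (Fin 8 → K)) :=
    fun _ _ => Submodule.mem_top
  apply hz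
  apply Subtype.ext
  show g = 1
  refine g2App_ext fun v => ?_
  rw [g2App_one]
  refine mem_sup_of_mem hg hℓ hω hS Submodule.mem_top fun i hi hi0 => ?_
  by_contra hd
  set μ := ω ^ i with hμ
  have hμℓ : μ ^ ℓ = 1 := by rw [hμ, ← pow_mul, mul_comm, pow_mul, hω.pow_eq_one, one_pow]
  have hμ1 : μ ≠ 1 := hω.pow_ne_one_of_pos_of_lt hi0 hi
  let E : Submodule K (Fin 8 → K) := ⊤ ⊓ eig g μ
  have hstab : ∀ y : ↥P, ∀ w ∈ E, g2Lin (y : G2 K) w ∈ E := fun y w hw => by
    refine ⟨Submodule.mem_top, mem_eig.2 ?_⟩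
    show g2App g (g2App (y : G2 K) w) = _
    rw [← g2App_mul, hgdef, ← Subgroup.coe_mul, ← Subgroup.mem_center_iff.1 hzz y, Subgroup.coe_mul,
      g2App_mul, mem_eig.1 (Submodule.mem_inf.1 hw).2, g2App_smul]
    rfl
  let ρ : ↥P →* K :=
    { toFun := fun y => LinearMap.det ((g2Lin (y : G2 K)).restrict (hstab y))
      map_one' := by
        rw [← LinearMap.det_id (A := K) (M := ↥E)]
        congr 1
        exact LinearMap.ext fun w => Subtype.ext (g2App_one _)
      map_mul' := fun y y' => by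
        rw [← LinearMap.det_comp]
        congr 1
        exact LinearMap.ext fun w => Subtype.ext (g2App_mul (y : G2 K) (y' : G2 K) _) }
  have hρ : ρ.toHomUnits z = 1 := Abelianization.commutator_subset_ker ρ.toHomUnits hzc
  have hρ' : ρ z = 1 := congrArg Units.val hρ
  have hval : ρ z = μ ^ Module.finrank K ↥E := by
    show LinearMap.det ((g2Lin g).restrict (hstab z)) = _
    rw [show (g2Lin g).restrict (hstab z) = μ • LinearMap.id from
      LinearMap.ext fun w => Subtype.ext (mem_eig.1 (Submodule.mem_inf.1 w.2).2),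
      LinearMap.det_smul, LinearMap.det_id, mul_one]
  have hdiv : ℓ ∣ Module.finrank K ↥E := by
    have ho : orderOf μ = ℓ := orderOf_eq_prime hμℓ hμ1
    rw [← ho]
    exact orderOf_dvd_of_pow_eq_one (hval.symm.trans hρ')
  have hinv : μ⁻¹ = ω ^ (ℓ - i) :=
    (eq_inv_of_mul_eq_one_left (by rw [hμ, ← pow_add, Nat.sub_add_cancel hi.le, hω.pow_eq_one])).symm
  have hsum := sum_edim hg hℓ hω hS
  rw [finrank_top, Module.finrank_fin_fun] at hsum
  have hne' : (⟨i, hi⟩ : Fin ℓ) ≠ ⟨ℓ - i, by omega⟩ := fun h => by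
    have := congrArg Fin.val h
    simp only at this
    have h2 : ℓ = 2 * i := by omega
    exact (by omega : ℓ ≠ 2) (((Nat.prime_dvd_prime_iff_eq Nat.prime_two (Fact.out)).1 ⟨i, h2⟩).symm)
  have hpair := Finset.sum_le_sum_of_subset (f := fun j : Fin ℓ => edim g ⊤ (ω ^ (j : ℕ)))
    (Finset.subset_univ {(⟨i, hi⟩ : Fin ℓ), ⟨ℓ - i, by omega⟩})
  rw [Finset.sum_pair hne', hsum, ← hinv, edim_inv hg hℓ hω hS nondeg_top hμℓ] at hpair
  have hge : ℓ ≤ edim g ⊤ μ := Nat.le_of_dvd (Nat.pos_of_ne_zero hd) hdiv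
  change edim g ⊤ μ + edim g ⊤ μ ≤ 8 at hpair
  omega

end H74.G2S
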