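import Mathlib

/-!
Lifting an element that is conjugate to its square through a surjection, and some subgroups of
alternating groups.
-/

set_option autoImplicit false
set_option linter.all false

namespace H74.G2S

open Equiv

theorem exists_squared {G Q : Type*} [Group G] [Finite G] [Group Q] (φ : G →* Q)
    (hφ : Function.Surjective φ) {ℓ : ℕ} [Fact ℓ.Prime] {x g : Q} (hx : x ^ ℓ = 1) (hx1 : x ≠ 1)
    (hg : g * x * g⁻¹ = x ^ 2)
    (hab : ∀ P : Subgroup G, IsPGroup ℓ ↥P → ∀ u v : ↥P, u * v = v * u) :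
    ∃ z a : G, z ^ ℓ = 1 ∧ z ≠ 1 ∧ a * z * a⁻¹ = z ^ 2 := by
  classical
  have hord : orderOf x = ℓ := orderOf_eq_prime hx hx1
  set C := Subgroup.zpowers x with hC
  set L := C.comap φ with hL
  obtain ⟨P⟩ := (inferInstance : Nonempty (Sylow ℓ ↥L))
  let π : ↥L →* ↥C := (φ.comp L.subtype).codRestrict C fun z => z.2
  have hπ : Function.Surjective π := by
    intro c
    obtain ⟨z, hz⟩ := hφ (c : Q)
    exact ⟨⟨z, show φ z ∈ C by rw [hz]; exact c.2⟩, Subtype.ext hz⟩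
  obtain ⟨g0, hg0⟩ := hφ g
  have hnorm : ∀ z : G, z ∈ L → g0 * z * g0⁻¹ ∈ L := by
    intro z hz
    show φ (g0 * z * g0⁻¹) ∈ C
    rw [map_mul, map_mul, map_inv, hg0]
    obtain ⟨i, hi⟩ := Subgroup.mem_zpowers_iff.1 (show φ z ∈ C from hz)
    rw [← hi, ← conj_zpow, hg]
    exact zpow_mem (pow_mem (Subgroup.mem_zpowers x) 2) i
  let cj : ↥L →* ↥L :=
    ((MulAut.conj g0).toMonoidHom.comp L.subtype).codRestrict L fun z => hnorm z z.2
  have hcj : Function.Injective cj := fun a b e => by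
    have := congrArg Subtype.val e
    exact Subtype.ext ((MulAut.conj g0).injective this)
  have hP' : Nat.card ↥((P : Subgroup ↥L).map cj) = ℓ ^ (Nat.card ↥L).factorization ℓ := by
    rw [Subgroup.card_map_of_injective hcj, P.card_eq_multiplicity]
  obtain ⟨l, hl⟩ := MulAction.exists_smul_eq ↥L (Sylow.ofCard ((P : Subgroup ↥L).map cj) hP') P
  set a : G := (l : G) * g0 with ha
  set X : Subgroup G := (P : Subgroup ↥L).map L.subtype with hX
  have haP : ∀ z ∈ X, a * z * a⁻¹ ∈ X := by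
    rintro _ ⟨z, hz, rfl⟩
    have : MulAut.conj l (cj z) ∈ (P : Subgroup ↥L) := by
      rw [← hl]
      exact ⟨cj z, ⟨z, hz, rfl⟩, rfl⟩
    refine ⟨_, this, ?_⟩
    show ((l : G) * (g0 * (z : G) * g0⁻¹) * (l : G)⁻¹) = _
    simp [ha, mul_assoc]
  obtain ⟨z0, hz0, hz0x⟩ : ∃ z ∈ (P : Subgroup ↥L), π z = ⟨x, Subgroup.mem_zpowers x⟩ := by
    set P' : Sylow ℓ ↥C := P.mapSurjective hπ with hP'
    have htop : (P' : Subgroup ↥C) = ⊤ := by
      have hc : IsPGroup ℓ ↥(⊤ : Subgroup ↥C) := by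
        refine IsPGroup.of_card (n := 1) ?_
        rw [Subgroup.card_top, Nat.card_zpowers, hord, pow_one]
      exact (P'.3 hc le_top).symm
    have : (⟨x, Subgroup.mem_zpowers x⟩ : ↥C) ∈ (P' : Subgroup ↥C) := by rw [htop]; trivial
    rw [hP', Sylow.coe_mapSurjective] at this
    exact this
  have hXp : IsPGroup ℓ ↥X := P.2.map _
  have hcomm := hab X hXp
  have hc2 : ∀ u ∈ X, φ (a * u * a⁻¹) = φ u ^ 2 := by
    rintro _ ⟨u, -, rfl⟩
    obtain ⟨i, hi⟩ := Subgroup.mem_zpowers_iff.1 (show φ (l : G) ∈ C from l.2)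
    obtain ⟨j, hj⟩ := Subgroup.mem_zpowers_iff.1 (show φ (u : G) ∈ C from u.2)
    show φ (a * (u : G) * a⁻¹) = φ (u : G) ^ 2
    rw [ha, map_mul, map_mul, map_inv, map_mul, hg0, mul_inv_rev,
      show φ (l : G) * g * φ (u : G) * (g⁻¹ * (φ (l : G))⁻¹) =
        φ (l : G) * (g * φ (u : G) * g⁻¹) * (φ (l : G))⁻¹ by group,
      ← hj, ← conj_zpow, hg, ← hi,
      (((Commute.refl x).zpow_left i).pow_right 2).zpow_right j |>.eq, mul_inv_cancel_right,
      ← zpow_natCast, ← zpow_natCast, ← zpow_mul, ← zpow_mul, mul_comm]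
  let ψ : ↥X →* ↥X :=
    { toFun := fun u => ⟨a * u * a⁻¹, haP _ u.2⟩ * (u ^ 2)⁻¹
      map_one' := Subtype.ext (by simp)
      map_mul' := fun u v => by
        have e : (⟨a * (u * v : ↥X) * a⁻¹, haP _ (u * v).2⟩ : ↥X) =
            ⟨a * u * a⁻¹, haP _ u.2⟩ * ⟨a * v * a⁻¹, haP _ v.2⟩ := by
          refine Subtype.ext ?_
          simp only [Subgroup.coe_mul]
          group
        show (⟨a * (u * v : ↥X) * a⁻¹, haP _ (u * v).2⟩ : ↥X) * ((u * v) ^ 2)⁻¹ = _
        have key : ∀ A B U V : ↥X, A * B * (U * V)⁻¹ = A * U⁻¹ * (B * V⁻¹) := fun A B U V => by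
          rw [mul_inv_rev, mul_assoc, mul_assoc, hcomm V⁻¹ U⁻¹, ← mul_assoc B, hcomm B U⁻¹, mul_assoc]
        rw [e, Commute.mul_pow (hcomm u v)]
        exact key _ _ _ _ }
  by_cases hinj : Function.Injective ψ
  · exfalso
    obtain ⟨y, hy⟩ := Finite.surjective_of_injective hinj ⟨(z0 : G), ⟨z0, hz0, rfl⟩⟩
    have e : φ ((ψ y : ↥X) : G) = x := by rw [hy]; exact congrArg Subtype.val hz0x
    apply hx1
    rw [← e]
    show φ (a * (y : G) * a⁻¹ * ((y : G) ^ 2)⁻¹) = 1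
    rw [map_mul, hc2 _ y.2, map_inv, map_pow, mul_inv_cancel]
  · obtain ⟨y, hy, hy1⟩ : ∃ y, ψ y = 1 ∧ y ≠ 1 := by
      by_contra hno
      push Not at hno
      exact hinj ((injective_iff_map_eq_one ψ).2 hno)
    have hay : a * (y : G) * a⁻¹ = (y : G) ^ 2 :=
      mul_inv_eq_one.1 (congrArg Subtype.val hy)
    obtain ⟨m, hm⟩ := hXp.dvd_orderOf hy1
    have hm0 : m ≠ 0 := fun h => by
      rw [h, mul_zero] at hm
      exact (orderOf_pos y).ne' hm
    refine ⟨((y : G)) ^ m, a, ?_, fun h => ?_, ?_⟩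
    · rw [← pow_mul, mul_comm, ← hm, ← SubgroupClass.coe_pow, pow_orderOf_eq_one]
      rfl
    · refine pow_ne_one_of_lt_orderOf hm0 ?_ (Subtype.ext h : y ^ m = 1)
      rw [hm]
      exact lt_mul_left (Nat.pos_of_ne_zero hm0) (Fact.out : ℓ.Prime).one_lt
    · rw [← conj_pow, hay, ← pow_mul, ← pow_mul, mul_comm]

/-- The embedding of alternating groups. -/
noncomputable def altEmb {n r : ℕ} (h : n ≤ r) :
    ↥(alternatingGroup (Fin n)) →* ↥(alternatingGroup (Fin r)) :=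
  ((Perm.extendDomainHom (Equiv.ofInjective (Fin.castLE h) (Fin.castLE_injective h))).comp
    (alternatingGroup (Fin n)).subtype).codRestrict _ fun p => by
      rw [Perm.mem_alternatingGroup]
      exact (Perm.sign_extendDomain p.1 _).trans (Perm.mem_alternatingGroup.1 p.2)

theorem altEmb_injective {n r : ℕ} (h : n ≤ r) : Function.Injective (altEmb h) := fun p q e =>
  Subtype.ext (Perm.extendDomainHom_injective _ (congrArg Subtype.val e))

/-- An element of order five of the alternating group of degree seven and an element squaring it. -/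
theorem alt_five {r : ℕ} (hr : 7 ≤ r) :
    ∃ x g : ↥(alternatingGroup (Fin r)), x ^ 5 = 1 ∧ x ≠ 1 ∧ g * x * g⁻¹ = x ^ 2 := by
  let x5 : Perm (Fin 7) :=
    { toFun := ![1, 2, 3, 4, 0, 5, 6], invFun := ![4, 0, 1, 2, 3, 5, 6]
      left_inv := by decide, right_inv := by decide }
  let g5 : Perm (Fin 7) :=
    { toFun := ![0, 2, 4, 1, 3, 6, 5], invFun := ![0, 3, 1, 4, 2, 6, 5]
      left_inv := by decide, right_inv := by decide }
  have h : x5 ^ 5 = 1 ∧ x5 ≠ 1 ∧ g5 * x5 * g5⁻¹ = x5 ^ 2 ∧ Perm.sign x5 = 1 ∧ Perm.sign g5 = 1 := by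
    decide +kernel
  obtain ⟨h1, h2, h3, h4, h5⟩ := h
  refine ⟨altEmb hr ⟨x5, Perm.mem_alternatingGroup.2 h4⟩, altEmb hr ⟨g5, Perm.mem_alternatingGroup.2 h5⟩,
    ?_, fun e => h2 ?_, ?_⟩
  · rw [← map_pow, ← map_one (altEmb hr)]
    exact congrArg _ (Subtype.ext h1)
  · exact congrArg Subtype.val (altEmb_injective hr (e.trans (map_one _).symm))
  · rw [← map_inv, ← map_mul, ← map_mul, ← map_pow]
    exact congrArg _ (Subtype.ext h3)

/-- An element of order seven of the alternating group of degree seven and an element squaring it. -/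
theorem alt_seven {r : ℕ} (hr : 7 ≤ r) :
    ∃ x g : ↥(alternatingGroup (Fin r)), x ^ 7 = 1 ∧ x ≠ 1 ∧ g * x * g⁻¹ = x ^ 2 := by
  let x7 : Perm (Fin 7) :=
    { toFun := ![1, 2, 3, 4, 5, 6, 0], invFun := ![6, 0, 1, 2, 3, 4, 5]
      left_inv := by decide, right_inv := by decide }
  let g7 : Perm (Fin 7) :=
    { toFun := ![0, 2, 4, 6, 1, 3, 5], invFun := ![0, 4, 1, 5, 2, 6, 3]
      left_inv := by decide, right_inv := by decide }
  have h : x7 ^ 7 = 1 ∧ x7 ≠ 1 ∧ g7 * x7 * g7⁻¹ = x7 ^ 2 ∧ Perm.sign x7 = 1 ∧ Perm.sign g7 = 1 := by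
    decide +kernel
  obtain ⟨h1, h2, h3, h4, h5⟩ := h
  refine ⟨altEmb hr ⟨x7, Perm.mem_alternatingGroup.2 h4⟩, altEmb hr ⟨g7, Perm.mem_alternatingGroup.2 h5⟩,
    ?_, fun e => h2 ?_, ?_⟩
  · rw [← map_pow, ← map_one (altEmb hr)]
    exact congrArg _ (Subtype.ext h1)
  · exact congrArg Subtype.val (altEmb_injective hr (e.trans (map_one _).symm))
  · rw [← map_inv, ← map_mul, ← map_mul, ← map_pow]
    exact congrArg _ (Subtype.ext h3)

/-- Four commuting double transpositions. -/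
def v16 (a : Fin 4 × Fin 4) : Perm (Fin 8) :=
  Function.Involutive.toPerm
    (fun i => ⟨(if i.1 < 4 then i.1 ^^^ a.1.1 else 4 + ((i.1 - 4) ^^^ a.2.1)) % 8,
      Nat.mod_lt _ (by omega)⟩)
    (by revert a; unfold Function.Involutive; decide +kernel)

theorem exists_elementary_sixteen :
    ∃ V : Subgroup ↥(alternatingGroup (Fin 8)), Nat.card ↥V = 16 ∧ ∀ v ∈ V, v * v = 1 := by
  classical
  have h1 : ∀ a : Fin 4 × Fin 4, Perm.sign (v16 a) = 1 ∧ v16 a * v16 a = 1 := by decide +kernel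
  have h2 : ∀ a b : Fin 4 × Fin 4, ∃ c, v16 a * v16 b = v16 c := by decide +kernel
  have h3 : v16 (0, 0) = 1 := by decide +kernel
  have h4 : Function.Injective v16 := by unfold Function.Injective; decide +kernel
  let V : Subgroup ↥(alternatingGroup (Fin 8)) :=
    { carrier := {p | ∃ a, v16 a = p.1}
      one_mem' := ⟨(0, 0), h3⟩
      mul_mem' := fun {p q} ⟨a, ha⟩ ⟨b, hb⟩ => by
        obtain ⟨c, hc⟩ := h2 a b
        exact ⟨c, by rw [← hc, ha, hb]; rfl⟩
      inv_mem' := fun {p} ⟨a, ha⟩ => ⟨a, by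
        rw [Subgroup.coe_inv, ← ha]
        exact eq_inv_of_mul_eq_one_left (h1 a).2⟩ }
  refine ⟨V, ?_, fun v ⟨a, ha⟩ => Subtype.ext ?_⟩
  · let e : Fin 4 × Fin 4 → ↥V := fun a => ⟨⟨v16 a, Perm.mem_alternatingGroup.2 (h1 a).1⟩, a, rfl⟩
    have he : Function.Bijective e :=
      ⟨fun a b h => h4 (congrArg (fun p : ↥V => (p : ↥(alternatingGroup (Fin 8))).1) h),
        fun p => p.2.imp fun a ha => Subtype.ext (Subtype.ext ha)⟩
    rw [← Nat.card_eq_of_bijective e he, Nat.card_prod, Nat.card_fin]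
  · show v.1 * v.1 = 1
    rw [← ha]
    exact (h1 a).2

theorem card_alt_eight : Nat.card ↥(alternatingGroup (Fin 8)) = 20160 := by
  have h := two_mul_nat_card_alternatingGroup (α := Fin 8)
  rw [Nat.card_perm, Nat.card_fin] at h
  rw [show Nat.factorial 8 = 40320 from rfl] at h
  omega

end H74.G2S
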