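import Cfsg.Agent.H74.G2Eigen
import Cfsg.Agent.H74.G2Lift

/-!
Alternating sections of the automorphism groups of split octonion algebras.
-/

set_option autoImplicit false
set_option linter.all false

namespace H74.G2S

open Cfsg.Lie Matrix H18 H55.G2
open scoped Classical

variable {K : Type*} [Field K]

/-- The trace of an automorphism. -/
noncomputable def g2Tr (g : G2 K) : K := Matrix.trace ((g : GL (Fin 8) K) : Matrix (Fin 8) (Fin 8) K)

theorem trace_g2Lin (g : G2 K) : LinearMap.trace K (Fin 8 → K) (g2Lin g) = g2Tr g := by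
  rw [g2Tr, ← Matrix.trace_toLin'_eq]
  rfl

theorem g2Tr_one : g2Tr (1 : G2 K) = 8 := by
  simp [g2Tr]

theorem g2Tr_map {F : Type*} [Field F] (f : F →+* K) (g : G2 F) :
    g2Tr (H56G2.mapG2 f g) = f (g2Tr g) := by
  simp [g2Tr, Matrix.trace, Matrix.diag, H56G2.mapG2_apply]

theorem g2Tr_stdInv (F : Type*) [Field F] : g2Tr (stdInv F) = 0 := by
  have e : ∀ i, ((stdInv F : GL (Fin 8) F) : Matrix (Fin 8) (Fin 8) F) i i =
      g2App (stdInv F) (Pi.single i 1) i := fun i => by
    simp [g2App, Matrix.mulVec_single]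
  simp only [g2Tr, Matrix.trace, Matrix.diag, e]
  have e2 : ∀ v, g2App (stdInv F) v = sl3Fun (Matrix.diagonal ![1, -1, -1]) v := fun v =>
    g2App_sl3Aut _ v
  simp only [e2, Fin.sum_univ_eight]
  simp [sl3Fun, zVec, zA, zB, cof3, adjugate3_apply, Matrix.mulVec, dotProduct, Fin.sum_univ_three,
    Pi.single_apply]
  rw [show Finset.univ.erase (0 : Fin 3) = {1, 2} by decide, show Finset.univ.erase (1 : Fin 3) = {0, 2} by decide,
    show Finset.univ.erase (2 : Fin 3) = {0, 1} by decide]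
  simp

theorem g2Tr_invol {F : Type*} [Field F] [Finite F] (h2 : (2 : F) ≠ 0) {g : G2 F} (hg : g * g = 1)
    (hne : g ≠ 1) : g2Tr g = 0 := by
  obtain ⟨c, hc⟩ := isConj_iff.1 (isConj_stdInv h2 hg hne)
  rw [← g2Tr_stdInv F, ← hc]
  simp only [g2Tr, Subgroup.coe_mul, Units.val_mul, Subgroup.coe_inv]
  rw [Matrix.trace_units_conj]

section five

variable [CharP K 5]

/-- The fixed space of a subgroup. -/
noncomputable def fixSp (E : Subgroup (G2 K)) : Submodule K (Fin 8 → K) := ⨅ e : ↥E, eig (e : G2 K) 1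

theorem mem_fixSp {E : Subgroup (G2 K)} {v : Fin 8 → K} : v ∈ fixSp E ↔ ∀ e ∈ E, g2App e v = v := by
  simp [fixSp, mem_eig]

theorem two_ne : (2 : K) ≠ 0 := fun h => by
  have := (CharP.cast_eq_zero_iff K 5 2).1 (by exact_mod_cast h)
  omega

/-- The averaging argument: the order times the dimension of the fixed space is the degree modulo five. -/
theorem fix_mod {E : Subgroup (G2 K)} [Fintype ↥E] {k : ℕ} (hcard : Nat.card ↥E = 2 ^ k)
    (htr : ∀ e ∈ E, e ≠ 1 → g2Tr e = 0) :
    (2 ^ k * Module.finrank K ↥(fixSp E)) % 5 = 3 := by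
  have hc : (Fintype.card ↥E : K) = 2 ^ k := by
    rw [← Nat.card_eq_fintype_card, hcard]; simp
  have hne : (Fintype.card ↥E : K) ≠ 0 := by rw [hc]; exact pow_ne_zero _ two_ne
  let P : (Fin 8 → K) →ₗ[K] (Fin 8 → K) := (Fintype.card ↥E : K)⁻¹ • ∑ e : ↥E, g2Lin (e : G2 K)
  have hP : LinearMap.IsProj (fixSp E) P := by
    constructor
    · intro v
      rw [mem_fixSp]
      intro a ha
      show g2Lin a (P v) = P v
      simp only [P, LinearMap.smul_apply, LinearMap.sum_apply, map_smul, map_sum]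
      congr 1
      refine Fintype.sum_equiv (Equiv.mulLeft (⟨a, ha⟩ : ↥E)) _ _ fun e => ?_
      exact (g2App_mul a (e : G2 K) v).symm
    · intro v hv
      simp only [P, LinearMap.smul_apply, LinearMap.sum_apply]
      rw [Finset.sum_congr rfl fun (e : ↥E) _ =>
        (show g2Lin (e : G2 K) v = v from mem_fixSp.1 hv _ e.2), Finset.sum_const, Finset.card_univ,
        ← Nat.cast_smul_eq_nsmul K, smul_smul, inv_mul_cancel₀ hne, one_smul]
  have ht := hP.trace
  simp only [P, map_smul, map_sum, trace_g2Lin, smul_eq_mul] at ht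
  rw [Finset.sum_eq_single (1 : ↥E) (fun e _ he => htr _ e.2 fun h => he (Subtype.ext h)) (by simp),
    OneMemClass.coe_one, g2Tr_one, inv_mul_eq_iff_eq_mul₀ hne, hc] at ht
  have := (CharP.natCast_eq_natCast K 5 (a := 8) (b := 2 ^ k * Module.finrank K ↥(fixSp E))).1
    (by push_cast; exact ht)
  exact this.symm

theorem fixSp_anti {E E' : Subgroup (G2 K)} (h : E ≤ E') : fixSp E' ≤ fixSp E := fun v hv => by
  rw [mem_fixSp] at hv ⊢
  exact fun e he => hv e (h he)

theorem no_sixteen {E : Subgroup (G2 K)} [Finite ↥E] (hcard : Nat.card ↥E = 16)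
    (hE : ∀ e ∈ E, e ≠ 1 → g2Tr e = 0) : False := by
  have hsub : ∀ (k : ℕ) (D : Subgroup ↥E), Nat.card ↥D = 2 ^ k →
      (2 ^ k * Module.finrank K ↥(fixSp (D.map E.subtype))) % 5 = 3 := fun k D hD => by
    have hm : Nat.card ↥(D.map E.subtype) = 2 ^ k := by
      rw [Subgroup.card_map_of_injective E.subtype_injective, hD]
    haveI : Finite ↥(D.map E.subtype) := Nat.finite_of_card_ne_zero (by rw [hm]; positivity)
    haveI := Fintype.ofFinite ↥(D.map E.subtype)
    exact fix_mod hm fun e he => hE e (Subgroup.map_subtype_le D he)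
  haveI : Fact (Nat.Prime 2) := ⟨Nat.prime_two⟩
  obtain ⟨D1, h1⟩ := Sylow.exists_subgroup_card_pow_prime (G := ↥E) 2 (n := 1) (by rw [hcard]; norm_num)
  obtain ⟨D2, h2, h12⟩ := Sylow.exists_subgroup_card_pow_prime_le (G := ↥E) 2 (m := 2)
    (by rw [hcard]; norm_num) D1 h1 (by norm_num)
  obtain ⟨D3, h3, h23⟩ := Sylow.exists_subgroup_card_pow_prime_le (G := ↥E) 2 (m := 3)
    (by rw [hcard]; norm_num) D2 h2 (by norm_num)
  have e1 := hsub 1 D1 h1
  have e2 := hsub 2 D2 h2
  have e3 := hsub 3 D3 h3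
  have e4 := hsub 4 ⊤ (by rw [Subgroup.card_top, hcard]; norm_num)
  have d1 := Submodule.finrank_le (fixSp (D1.map E.subtype))
  rw [Module.finrank_fin_fun] at d1
  have m2 := Submodule.finrank_mono (fixSp_anti (K := K) (Subgroup.map_mono (f := E.subtype) h12))
  have m3 := Submodule.finrank_mono (fixSp_anti (K := K) (Subgroup.map_mono (f := E.subtype) h23))
  have m4 := Submodule.finrank_mono (fixSp_anti (K := K)
    (Subgroup.map_mono (f := E.subtype) (le_top : D3 ≤ ⊤)))
  omega

/-- An involution with trace zero has two eigenspaces of dimension four. -/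
theorem invol_dims {t : G2 K} (ht : t ^ 2 = 1) (ht1 : t ≠ 1) (htr : g2Tr t = 0) :
    edim t ⊤ 1 = 4 ∧ edim t ⊤ (-1) = 4 := by
  haveI : Fact (Nat.Prime 2) := ⟨Nat.prime_two⟩
  haveI : Finite ↥(Subgroup.zpowers t) :=
    Nat.finite_of_card_ne_zero (by rw [Nat.card_zpowers, orderOf_eq_prime ht ht1]; norm_num)
  haveI := Fintype.ofFinite ↥(Subgroup.zpowers t)
  haveI : Fact (Nat.Prime 2) := ⟨Nat.prime_two⟩
  have h2 : Nat.card ↥(Subgroup.zpowers t) = 2 ^ 1 := by
    rw [Nat.card_zpowers, orderOf_eq_prime ht ht1, pow_one]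
  have hm := fix_mod h2 fun e he he1 => by
    obtain ⟨j, rfl⟩ := Subgroup.mem_zpowers_iff.1 he
    rcases Int.even_or_odd' j with ⟨i, rfl | rfl⟩
    · exact absurd (by rw [_root_.zpow_mul, zpow_ofNat, ht, _root_.one_zpow]) he1
    · rw [_root_.zpow_add, _root_.zpow_mul, zpow_ofNat, ht, _root_.one_zpow, one_mul, zpow_one, htr]
  have hfix : fixSp (Subgroup.zpowers t) = ⊤ ⊓ eig t 1 := by
    ext v
    rw [mem_fixSp, Submodule.mem_inf, mem_eig, one_smul]
    refine ⟨fun h => ⟨Submodule.mem_top, h t (Subgroup.mem_zpowers t)⟩, fun h e he => ?_⟩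
    obtain ⟨j, rfl⟩ := Subgroup.mem_zpowers_iff.1 he
    rcases Int.even_or_odd' j with ⟨i, rfl | rfl⟩
    · rw [_root_.zpow_mul, zpow_ofNat, ht, _root_.one_zpow, g2App_one]
    · rw [_root_.zpow_add, _root_.zpow_mul, zpow_ofNat, ht, _root_.one_zpow, one_mul, zpow_one, h.2]
  rw [hfix] at hm
  change (2 ^ 1 * edim t ⊤ 1) % 5 = 3 at hm
  have hn : ((2 : ℕ) : K) ≠ 0 := by exact_mod_cast two_ne
  have hω : IsPrimitiveRoot (-1 : K) 2 := IsPrimitiveRoot.neg_one 5 (by norm_num)
  have hsum := sum_edim (S := ⊤) ht hn hω fun _ _ => Submodule.mem_top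
  rw [finrank_top, Module.finrank_fin_fun, Fin.sum_univ_two] at hsum
  simp only [Fin.val_zero, Fin.val_one, pow_zero, pow_one] at hsum
  omega

variable [IsAlgClosed K]

/-- No finite group of octonion automorphisms with involutions of trace zero maps onto the alternating group of
degree eight. -/
theorem no_alt_eight {G : Type*} [Group G] [Finite G] (ι : G →* G2 K) (hι : Function.Injective ι)
    (htr : ∀ g : G, g * g = 1 → g ≠ 1 → g2Tr (ι g) = 0)
    (φ : G →* ↥(alternatingGroup (Fin 8))) (hφ : Function.Surjective φ) : False := by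
  haveI : Fact (Nat.Prime 2) := ⟨Nat.prime_two⟩
  haveI : Fact (Nat.Prime 7) := ⟨by norm_num⟩
  haveI : IsSimpleGroup ↥(alternatingGroup (Fin 8)) :=
    alternatingGroup.isSimpleGroup (by simp)
  obtain ⟨M, hM, hmin⟩ := (wellFounded_lt (α := Subgroup G)).has_min {M | M.map φ = ⊤}
    ⟨⊤, Subgroup.map_top_of_surjective φ hφ⟩
  set ψ : ↥M →* ↥(alternatingGroup (Fin 8)) := φ.comp M.subtype with hψdef
  have hψr : ψ.range = ⊤ := by
    rw [MonoidHom.range_eq_map, hψdef, ← Subgroup.map_map, ← MonoidHom.range_eq_map, M.range_subtype]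
    exact hM
  have hψ : Function.Surjective ψ := MonoidHom.range_eq_top.1 hψr
  have minimal : ∀ C : Subgroup ↥M, C.map ψ = ⊤ → C = ⊤ := fun C hC => by
    by_contra hne
    refine hmin (C.map M.subtype) ?_ ?_
    · show (C.map M.subtype).map φ = ⊤
      rwa [Subgroup.map_map]
    · refine lt_of_le_of_ne (Subgroup.map_subtype_le C) fun e => hne ?_
      refine Subgroup.map_injective M.subtype_injective ?_
      rw [e, ← MonoidHom.range_eq_map, M.range_subtype]
  have hinj : Function.Injective (ι.comp M.subtype) := hι.comp M.subtype_injective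
  have htrM : ∀ g : ↥M, g * g = 1 → g ≠ 1 → g2Tr (ι.comp M.subtype g) = 0 := fun g hg hne =>
    htr g (congrArg Subtype.val hg) fun h => hne (Subtype.ext h)
  have small : ∀ B : Subgroup ↥M, Nat.card ↥B = 16 → (∀ b ∈ B, b * b = 1) → False := fun B hB hBi => by
    haveI : Finite ↥(B.map (ι.comp M.subtype)) :=
      Nat.finite_of_card_ne_zero (by rw [Subgroup.card_map_of_injective hinj, hB]; norm_num)
    refine no_sixteen (E := B.map (ι.comp M.subtype)) (by rw [Subgroup.card_map_of_injective hinj, hB]) ?_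
    rintro _ ⟨b, hb, rfl⟩ hne
    exact htrM b (hBi b hb) fun h => hne (by rw [h, map_one])
  set N := ψ.ker with hN
  have hNidx : N.index = 20160 := by
    rw [hN, Subgroup.index_ker, hψr, Subgroup.card_top, card_alt_eight]
  obtain ⟨P⟩ := (inferInstance : Nonempty (Sylow 2 ↥N))
  set S : Subgroup ↥M := (P : Subgroup ↥N).map N.subtype with hSdef
  have hS : S.Normal := by
    rw [← Subgroup.normalizer_eq_top_iff]
    refine minimal _ ?_
    have h := congrArg (Subgroup.map ψ) (Sylow.normalizer_sup_eq_top P)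
    rw [Subgroup.map_sup, show N.map ψ = ⊥ from (Subgroup.map_eq_bot_iff _).2 le_rfl, sup_bot_eq,
      Subgroup.map_top_of_surjective ψ hψ] at h
    exact h
  have hSp : IsPGroup 2 ↥S := P.2.map _
  by_cases hS0 : S = ⊥
  · -- the kernel has odd order
    have hodd : ¬ 2 ∣ Nat.card ↥N := by
      intro h
      have h1 := P.dvd_card_of_dvd_card h
      have h2 : Nat.card ↥(P : Subgroup ↥N) = 1 := by
        rw [← Subgroup.card_map_of_injective N.subtype_injective, ← hSdef, hS0, Subgroup.card_bot]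
      change 2 ∣ Nat.card ↥(P : Subgroup ↥N) at h1
      omega
    obtain ⟨V, hV, hVi⟩ := exists_elementary_sixteen
    have hL : 16 ∣ Nat.card ↥(V.comap ψ) := by
      have e1 := (V.comap ψ).card_mul_index
      rw [Subgroup.index_comap_of_surjective _ hψ, ← N.card_mul_index, hNidx] at e1
      have e2 := V.card_mul_index
      rw [hV, card_alt_eight] at e2
      rw [← e2, ← mul_assoc] at e1
      exact ⟨Nat.card ↥N, by
        have hne : V.index ≠ 0 := fun h => by rw [h] at e2; omega
        rw [mul_comm 16]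
        exact mul_right_cancel₀ hne e1⟩
    obtain ⟨Q, hQ⟩ := Sylow.exists_subgroup_card_pow_prime (G := ↥(V.comap ψ)) 2 (n := 4) (by norm_num; exact hL)
    refine small (Q.map (V.comap ψ).subtype) (by
      rw [Subgroup.card_map_of_injective (Subgroup.subtype_injective _), hQ]; norm_num) ?_
    rintro _ ⟨q, hq, rfl⟩
    have h1 : (q * q : ↥(V.comap ψ)) ∈ Q := mul_mem hq hq
    have h2 : ψ ((q : ↥M) * q) = 1 := by rw [map_mul]; exact hVi _ q.2
    set b : ↥M := (q : ↥M) * q with hb
    have hb16 : b ^ 16 = 1 := by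
      have h16 : (q * q : ↥(V.comap ψ)) ^ 16 = 1 := by
        have := pow_card_eq_one' (G := ↥Q) (x := ⟨q * q, h1⟩)
        rw [hQ] at this
        exact congrArg Subtype.val this
      exact congrArg Subtype.val h16
    have hbN : (⟨b, h2⟩ : ↥N) ^ Nat.card ↥N = 1 := pow_card_eq_one'
    have hbN' : b ^ Nat.card ↥N = 1 := congrArg Subtype.val hbN
    have hcop : Nat.Coprime 16 (Nat.card ↥N) :=
      ((Nat.Prime.coprime_iff_not_dvd Nat.prime_two).2 hodd).pow_left 4
    have hg := pow_gcd_eq_one.2 ⟨hb16, hbN'⟩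
    rwa [hcop.gcd_eq_one, pow_one] at hg
  · -- a central involution
    have hSc : ∀ {s}, s ∈ S → ∀ m : ↥M, m * s * m⁻¹ ∈ S := fun hs m => hS.conj_mem _ hs m
    let A : Subgroup ↥M :=
      { carrier := {y | y ∈ S ∧ (∀ s ∈ S, s * y = y * s) ∧ y ^ 2 = 1}
        one_mem' := ⟨one_mem S, fun s _ => by simp, one_pow 2⟩
        mul_mem' := fun {x y} hx hy => ⟨mul_mem hx.1 hy.1,
          fun s hs => by rw [← mul_assoc, hx.2.1 s hs, mul_assoc, hy.2.1 s hs, ← mul_assoc],
          by rw [(show Commute x y from (hy.2.1 x hx.1)).mul_pow, hx.2.2, hy.2.2, one_mul]⟩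
        inv_mem' := fun {x} hx => ⟨inv_mem hx.1, fun s hs => (Commute.inv_right (hx.2.1 s hs)),
          by rw [inv_pow, hx.2.2, inv_one]⟩ }
    haveI hA : A.Normal := ⟨fun y hy m => ⟨hSc hy.1 m, fun s hs => by
      have := hy.2.1 (m⁻¹ * s * m) (by simpa using hSc hs m⁻¹)
      calc s * (m * y * m⁻¹) = m * (m⁻¹ * s * m * y) * m⁻¹ := by group
        _ = m * (y * (m⁻¹ * s * m)) * m⁻¹ := by rw [this]
        _ = _ := by group,
      by rw [conj_pow, hy.2.2, mul_one, mul_inv_cancel]⟩⟩
    have hA2 : ∀ b ∈ A, b * b = 1 := fun b hb => by rw [← pow_two]; exact hb.2.2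
    have hAp : IsPGroup 2 ↥A := fun a => ⟨1, by
      rw [pow_one]; exact Subtype.ext a.2.2.2⟩
    have hA8 : Nat.card ↥A ≤ 8 := by
      obtain ⟨k, hk⟩ := IsPGroup.iff_card.1 hAp
      rw [hk]
      by_contra hgt
      have hk4 : 4 ≤ k := by
        by_contra h4
        have := Nat.pow_le_pow_right (show 1 ≤ 2 by norm_num) (show k ≤ 3 by omega)
        omega
      obtain ⟨B, hB⟩ := Sylow.exists_subgroup_card_pow_prime (G := ↥A) 2 (n := 4)
        (by rw [hk]; exact pow_dvd_pow 2 hk4)
      refine small (B.map A.subtype) (by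
        rw [Subgroup.card_map_of_injective (Subgroup.subtype_injective _), hB]; norm_num) ?_
      rintro _ ⟨b, -, rfl⟩
      exact hA2 _ b.2
    obtain ⟨t, ht, ht1⟩ : ∃ t ∈ A, t ≠ 1 := by
      haveI : Nontrivial ↥S := (Subgroup.nontrivial_iff_ne_bot S).2 hS0
      obtain ⟨c, hc, hc1⟩ : ∃ c : ↥S, c ∈ Subgroup.center ↥S ∧ c ≠ 1 := by
        obtain ⟨c, hc⟩ := Subgroup.ne_bot_iff_exists_ne_one.1 hSp.bot_lt_center.ne'
        exact ⟨c.1, c.2, fun h => hc (Subtype.ext h)⟩
      obtain ⟨m, hm⟩ := hSp.dvd_orderOf hc1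
      have hm0 : m ≠ 0 := fun h => by rw [h, mul_zero] at hm; exact (orderOf_pos c).ne' hm
      refine ⟨((c ^ m : ↥S) : ↥M), ⟨(c ^ m).2, fun s hs => ?_, ?_⟩, fun h => ?_⟩
      · exact congrArg Subtype.val (Subgroup.mem_center_iff.1 (pow_mem hc m) (⟨s, hs⟩ : ↥S))
      · rw [← SubgroupClass.coe_pow, ← pow_mul, mul_comm, ← hm, pow_orderOf_eq_one]; rfl
      · refine pow_ne_one_of_lt_orderOf hm0 ?_ (Subtype.ext h : c ^ m = 1)
        rw [hm]; omega
    -- `M` centralises `A`
    let θ : ↥M →* Equiv.Perm {a : ↥A // a ≠ 1} :=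
      { toFun := fun m => Equiv.Perm.subtypePerm (MulAut.conjNormal m : MulAut ↥A).toEquiv fun a => by simp
        map_one' := by ext a; simp
        map_mul' := fun m m' => by ext a; simp [MulAut.conjNormal_apply, mul_assoc] }
    have hcent : ∀ m : ↥M, m * t * m⁻¹ = t := by
      rcases IsSimpleGroup.eq_bot_or_eq_top_of_normal _ (Subgroup.Normal.map (inferInstance : θ.ker.Normal) ψ hψ)
        with hC | hC
      · exfalso
        have hle : θ.ker ≤ N := (Subgroup.map_eq_bot_iff _).1 hC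
        have h1 := Subgroup.index_dvd_of_le hle
        rw [hNidx, Subgroup.index_ker] at h1
        have h2 := h1.trans (Subgroup.card_subgroup_dvd_card θ.range)
        rw [Nat.card_perm] at h2
        have hn : Nat.card {a : ↥A // a ≠ 1} ≤ 7 := by
          haveI := Fintype.ofFinite ↥A
          rw [Nat.card_eq_fintype_card, Fintype.card_subtype_compl, Fintype.card_subtype_eq,
            ← Nat.card_eq_fintype_card]
          omega
        have h3 := Nat.le_of_dvd (by positivity) (h2.trans (Nat.factorial_dvd_factorial hn))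
        norm_num [Nat.factorial] at h3
      · intro m
        have hm : m ∈ θ.ker := by rw [minimal _ hC]; trivial
        rw [MonoidHom.mem_ker] at hm
        have := congrArg (fun σ => ((σ ⟨⟨t, ht⟩, fun h => ht1 (congrArg Subtype.val h)⟩).1 : ↥M)) hm
        simpa [θ, MulAut.conjNormal_apply] using this
    -- the elements of order seven
    obtain ⟨x, g, hx, hx1, hg⟩ := alt_seven (r := 8) (by norm_num)
    have h7 : (7 : K) ≠ 0 := fun h => by
      have := (CharP.cast_eq_zero_iff K 5 7).1 (by exact_mod_cast h)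
      omega
    obtain ⟨z, a, hz, hz1, ha⟩ := exists_squared ψ hψ (ℓ := 7) hx hx1 hg fun X hX u v => by
      refine Subtype.ext (hinj ?_)
      haveI : Finite ↥(X.map (ι.comp M.subtype)) :=
        Finite.of_equiv _ (X.equivMapOfInjective _ hinj).toEquiv
      have h := comm_of_isPGroup (ℓ := 7) (by norm_num) (by exact_mod_cast h7) (hX.map (ι.comp M.subtype))
        ⟨_, ⟨u.1, u.2, rfl⟩⟩ ⟨_, ⟨v.1, v.2, rfl⟩⟩
      simpa only [Subgroup.coe_mul, map_mul] using congrArg Subtype.val h
    set f := ι.comp M.subtype with hf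
    have ht2 : f t ^ 2 = 1 := by rw [← map_pow, ht.2.2, map_one]
    have htne : f t ≠ 1 := fun h => ht1 (hinj (h.trans (map_one f).symm))
    obtain ⟨hd1, hd2⟩ := invol_dims ht2 htne (htrM t (hA2 t ht) ht1)
    have hn : ((2 : ℕ) : K) ≠ 0 := by exact_mod_cast two_ne
    have hω : IsPrimitiveRoot (-1 : K) 2 := IsPrimitiveRoot.neg_one 5 (by norm_num)
    have hfix : ∀ e : K, e ^ 2 = 1 → e⁻¹ = e → edim (f t) ⊤ e = 4 →
        ∀ v ∈ (⊤ : Submodule K (Fin 8 → K)) ⊓ eig (f t) e, g2App (f z) v = v := by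
      intro e he he' hd
      have hst : ∀ m : ↥M, ∀ v ∈ (⊤ : Submodule K (Fin 8 → K)) ⊓ eig (f t) e,
          g2App (f m) v ∈ (⊤ : Submodule K (Fin 8 → K)) ⊓ eig (f t) e := fun m v hv => by
        refine ⟨Submodule.mem_top, mem_eig.2 ?_⟩
        rw [← g2App_mul, ← map_mul, show t * m = m * t from (mul_inv_eq_iff_eq_mul.1 (hcent m)).symm,
          map_mul, g2App_mul, mem_eig.1 (Submodule.mem_inf.1 hv).2, g2App_smul]
      refine seven_fix (a := f a) h7 (by rw [← map_pow, hz, map_one])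
        (by rw [← map_inv, ← map_mul, ← map_mul, ha, map_pow])
        (nondeg_eig ht2 hn hω (fun _ _ => Submodule.mem_top) nondeg_top he he') (hst z)
        (by rw [← map_inv]; exact hst a⁻¹) ?_
      change edim (f t) ⊤ e ≤ 5
      omega
    refine hz1 (hinj ?_)
    rw [map_one]
    refine g2App_ext fun v => ?_
    rw [g2App_one, ← sum_proj (g := f t) hn hω v]
    show g2Lin (f z) _ = _
    rw [map_sum]
    refine Finset.sum_congr rfl fun i _ => ?_
    have hm := proj_mem_eig ht2 hω (i : ℕ) v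
    fin_cases i
    · exact hfix 1 (one_pow 2) inv_one hd1 _ ⟨Submodule.mem_top, by simpa using hm⟩
    · exact hfix (-1) neg_one_sq (by rw [inv_neg, inv_one]) hd2 _ ⟨Submodule.mem_top, by simpa using hm⟩

end five

theorem sections {F : Type*} [Field F] [Fintype F] (p : ℕ) [Fact p.Prime] [CharP F p] (r : ℕ)
    {G : Type*} [Group G] [Finite G] (φ : G →* ↥(alternatingGroup (Fin r))) (hφ : Function.Surjective φ)
    (ι : G →* G2 F) (hι : Function.Injective ι) : r ≤ 6 + (if p = 5 then 1 else 0) := by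
  by_contra hr
  have hp : p.Prime := Fact.out
  let Kc := AlgebraicClosure F
  haveI : CharP Kc p := charP_of_injective_algebraMap (algebraMap F Kc).injective p
  let κ : G →* G2 Kc := (H56G2.mapG2 (algebraMap F Kc)).comp ι
  have hκ : Function.Injective κ := (H56G2.mapG2_injective _).comp hι
  by_cases hp5 : p = 5
  · subst hp5
    rw [if_pos rfl] at hr
    have h2 : (2 : F) ≠ 0 := fun h => by
      have := (CharP.cast_eq_zero_iff F 5 2).1 (by exact_mod_cast h)
      omega
    let R := (altEmb (show 8 ≤ r by omega)).range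
    let e := MonoidHom.ofInjective (altEmb_injective (show 8 ≤ r by omega))
    let φ8 : ↥(R.comap φ) →* ↥(alternatingGroup (Fin 8)) :=
      e.symm.toMonoidHom.comp ((φ.comp (R.comap φ).subtype).codRestrict R fun x => x.2)
    refine no_alt_eight (κ.comp (R.comap φ).subtype) (hκ.comp (R.comap φ).subtype_injective)
      (fun g hg hne => ?_) φ8 (e.symm.surjective.comp fun c => ?_)
    · show g2Tr (H56G2.mapG2 (algebraMap F Kc) (ι g)) = 0
      rw [g2Tr_map, g2Tr_invol h2 (by rw [← map_mul, show ((g : G) * g) = 1 from congrArg Subtype.val hg, map_one])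
        (fun h => hne (Subtype.ext (hι (h.trans (map_one ι).symm)))), map_zero]
    · obtain ⟨x, hx⟩ := hφ (c : ↥(alternatingGroup (Fin r)))
      exact ⟨⟨x, show φ x ∈ R by rw [hx]; exact c.2⟩, Subtype.ext hx⟩
  · rw [if_neg hp5] at hr
    haveI : Fact (Nat.Prime 5) := ⟨by norm_num⟩
    have h5 : (5 : Kc) ≠ 0 := fun h => hp5 ((Nat.prime_dvd_prime_iff_eq hp (by norm_num)).1
      ((CharP.cast_eq_zero_iff Kc p 5).1 (by exact_mod_cast h)))
    obtain ⟨x, g, hx, hx1, hg⟩ := alt_five (r := r) (by omega)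
    obtain ⟨z, a, hz, hz1, ha⟩ := exists_squared φ hφ (ℓ := 5) hx hx1 hg fun X hX u v => by
      refine Subtype.ext (hκ ?_)
      haveI : Finite ↥(X.map κ) := Finite.of_equiv _ (X.equivMapOfInjective _ hκ).toEquiv
      have h := comm_of_isPGroup (ℓ := 5) le_rfl (by exact_mod_cast h5) (hX.map κ)
        ⟨_, ⟨u.1, u.2, rfl⟩⟩ ⟨_, ⟨v.1, v.2, rfl⟩⟩
      simpa only [Subgroup.coe_mul, map_mul] using congrArg Subtype.val h
    refine hz1 (hκ ?_)
    rw [map_one]
    exact no_five h5 (a := κ a) (by rw [← map_pow, hz, map_one])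
      (by rw [← map_inv, ← map_mul, ← map_mul, ha, map_pow])

end H74.G2S
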