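import Cfsg.Agent.H74.PRed
import Cfsg.Agent.H83.PGroupBasic
import Cfsg.Agent.H76.SPE

/-!
Kieler's lemma: in a group of characteristic `p` the centraliser of `Ω₁(Z(T))` in a subnormal
subgroup `L` is that of `Ω₁(Z(T ∩ L))`.
-/

set_option autoImplicit false

namespace H74.Kieler

open Subgroup H75
open scoped commutatorElement

variable {G : Type*} [Group G] [Finite G] {p : ℕ} [hp : Fact p.Prime]

theorem sylIn_inf {T A B : Subgroup G} (hAB : A ≤ B) (hBA : B ≤ normalizer (A : Set G))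
    (hT : H74.IsSylIn p T B) : H74.IsSylIn p (T ⊓ A) A := by
  obtain ⟨S⟩ := (inferInstance : Nonempty (Sylow p A))
  obtain ⟨P, hP⟩ := hT.exists_sylow
  have hS := H74.isSylIn_of_sylow S
  obtain ⟨b, hb, hbS⟩ := H76.exists_conj_mem_sylow P (hS.le.trans hAB) hS.isPGroup
  rw [hP] at hbS
  have h1 : ((S : Subgroup A).map A.subtype).map (MulAut.conj b).toMonoidHom ≤ T ⊓ A := by
    rintro _ ⟨s, hs, rfl⟩
    exact ⟨hbS s hs, (mem_normalizer_iff.mp (hBA hb) s).mp (hS.le hs)⟩
  refine ⟨inf_le_right, le_antisymm ?_ ?_⟩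
  · obtain ⟨k, hk⟩ := IsPGroup.iff_card.mp (hT.isPGroup.to_inf_left (K := A))
    rw [hk]
    exact Nat.pow_le_pow_right hp.out.pos ((hp.out.pow_dvd_iff_le_factorization Nat.card_pos.ne').mp
      (hk ▸ card_dvd_of_le inf_le_right))
  · have hc : Nat.card ↥(((S : Subgroup A).map A.subtype).map (MulAut.conj b).toMonoidHom) =
        Nat.card ↥((S : Subgroup A).map A.subtype) := card_map_of_injective (MulAut.conj b).injective
    rw [← hS.2, ← hc]
    exact card_le_of_le h1

theorem not_dvd_relIndex {S C : Subgroup G} (h : H74.IsSylIn p S C) : ¬ p ∣ S.relIndex C := by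
  obtain ⟨P, rfl⟩ := h.exists_sylow
  rw [relIndex, Subgroup.subgroupOf, comap_map_eq_self_of_injective C.subtype_injective]
  exact P.not_dvd_index

theorem mem_sylow_of_commute {S A : Subgroup G} (hS : H74.IsSylIn p S A) {w : G} (hw : w ∈ A)
    (hwp : w ^ p = 1) (hc : w ∈ centralizer (S : Set G)) : w ∈ S := by
  have hz : IsPGroup p (zpowers w) := by
    rintro ⟨y, hy⟩
    obtain ⟨i, rfl⟩ := mem_zpowers_iff.mp hy
    refine ⟨1, Subtype.ext ?_⟩
    show (w ^ i) ^ (p ^ 1) = 1
    rw [pow_one, ← zpow_natCast, ← zpow_mul, mul_comm, zpow_mul, zpow_natCast, hwp, one_zpow]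
  have hsup : IsPGroup p ↥(S ⊔ zpowers w) :=
    IsPGroup.to_sup_of_normal_left' hS.isPGroup hz
      (zpowers_le.mpr (centralizer_le_normalizer _ hc))
  obtain ⟨k, hk⟩ := IsPGroup.iff_card.mp hsup
  have hle : S ⊔ zpowers w ≤ A := sup_le hS.le (zpowers_le.mpr hw)
  have hcard : Nat.card ↥(S ⊔ zpowers w) ≤ Nat.card S := by
    rw [hk, hS.2]
    exact Nat.pow_le_pow_right hp.out.pos ((hp.out.pow_dvd_iff_le_factorization Nat.card_pos.ne').mp
      (hk ▸ card_dvd_of_le hle))
  rw [eq_of_le_of_card_ge (le_sup_left (b := zpowers w)) hcard]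
  exact mem_sup_right (mem_zpowers w)

omit hp in
/-- Averaging over the cosets of `S` in `C`. -/
theorem exists_average (M C S : Subgroup G) (hM : M ≤ centralizer (M : Set G))
    (hCM : C ≤ normalizer (M : Set G)) (hSC : S ≤ C) :
    ∃ τ : G → G,
      (∀ v ∈ M ⊓ centralizer (S : Set G), τ v ∈ M ⊓ centralizer (C : Set G)) ∧
      (∀ v ∈ M ⊓ centralizer (S : Set G), ∀ w ∈ M ⊓ centralizer (S : Set G),
        τ (v * w) = τ v * τ w) ∧
      (∀ v ∈ M ⊓ centralizer (C : Set G), τ v = v ^ S.relIndex C) ∧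
      (∀ v ∈ M ⊓ centralizer (S : Set G), ∀ W : Subgroup G, (∀ c ∈ C, ⁅c, v⁆ ∈ W) →
        τ v * (v ^ S.relIndex C)⁻¹ ∈ W) ∧
      (∀ t, t ∈ normalizer (M : Set G) → t ∈ normalizer (C : Set G) →
        t ∈ normalizer (S : Set G) → ∀ v ∈ M ⊓ centralizer (S : Set G),
        τ (t * v * t⁻¹) = t * τ v * t⁻¹) := by
  classical
  letI : CommGroup M :=
    { (inferInstance : Group M) with
      mul_comm := fun a b => Subtype.ext (mem_centralizer_iff.mp (hM b.2) a a.2) }
  haveI := Fintype.ofFinite (C ⧸ S.subgroupOf C)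
  let f : G → (C ⧸ S.subgroupOf C) → M := fun v q =>
    if h : v ∈ M then ⟨((q.out : C) : G) * v * ((q.out : C) : G)⁻¹,
      (mem_normalizer_iff.mp (hCM (q.out : C).2) v).mp h⟩ else 1
  have fval : ∀ v, v ∈ M → ∀ q : C ⧸ S.subgroupOf C,
      (f v q : G) = ((q.out : C) : G) * v * ((q.out : C) : G)⁻¹ := fun v hv q => by
    simp [f, hv]
  have key : ∀ v ∈ M ⊓ centralizer (S : Set G), ∀ c : C,
      (f v (c : C ⧸ S.subgroupOf C) : G) = (c : G) * v * (c : G)⁻¹ := by
    intro v hv c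
    obtain ⟨s, hs⟩ := QuotientGroup.mk_out_eq_mul (S.subgroupOf C) c
    rw [fval v hv.1, hs]
    have : ((s : C) : G) * v = v * ((s : C) : G) :=
      mem_centralizer_iff.mp hv.2 _ (mem_subgroupOf.mp s.2)
    simp only [Subgroup.coe_mul, mul_inv_rev, mul_assoc]
    rw [← mul_assoc ((s : C) : G) v, this]
    simp [mul_assoc]
  let τ : G → G := fun v => ((∏ q, f v q : M) : G)
  have hcard : Fintype.card (C ⧸ S.subgroupOf C) = S.relIndex C := by
    rw [← Nat.card_eq_fintype_card]; rfl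
  have hfix : ∀ v ∈ M ⊓ centralizer (C : Set G), τ v = v ^ S.relIndex C := by
    intro v hv
    have h1 : ∀ q, f v q = ⟨v, hv.1⟩ := fun q => by
      refine Subtype.ext ?_
      rw [fval v hv.1]
      show ((q.out : C) : G) * v * ((q.out : C) : G)⁻¹ = v
      rw [mul_inv_eq_iff_eq_mul]
      exact mem_centralizer_iff.mp hv.2 _ (q.out : C).2
    simp only [τ, h1, Finset.prod_const, Finset.card_univ, hcard, SubmonoidClass.coe_pow]
  refine ⟨τ, fun v hv => ⟨(∏ q, f v q : M).2, ?_⟩, fun v hv w hw => ?_, hfix,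
    fun v hv W hW => ?_, fun t htM htC htS v hv => ?_⟩
  · refine mem_centralizer_iff.mpr fun a ha => ?_
    let φ : M →* M := MonoidHom.mk' (fun x => ⟨a * x * a⁻¹,
      (mem_normalizer_iff.mp (hCM ha) x).mp x.2⟩) (fun x y => Subtype.ext (by simp [mul_assoc]))
    have h2 : φ (∏ q, f v q) = ∏ q, f v q := by
      rw [map_prod]
      refine Fintype.prod_equiv (MulAction.toPerm (⟨a, ha⟩ : C)) _ _ fun q => ?_
      refine Subtype.ext ?_
      show a * (f v q : G) * a⁻¹ = (f v ((⟨a, ha⟩ : C) • q) : G)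
      conv_rhs => rw [← QuotientGroup.out_eq' q, MulAction.Quotient.smul_coe, smul_eq_mul]
      rw [key v hv, fval v hv.1]
      simp [mul_assoc]
    exact mul_inv_eq_iff_eq_mul.mp (congrArg Subtype.val h2)
  · have hvw := mul_mem hv hw
    have h1 : ∀ q, f (v * w) q = f v q * f w q := fun q => by
      refine Subtype.ext ?_
      rw [Subgroup.coe_mul, fval v hv.1, fval w hw.1, fval _ hvw.1]
      simp [mul_assoc]
    simp only [τ, h1, Finset.prod_mul_distrib, Subgroup.coe_mul]
  · have h1 : (∏ q, f v q) * ((⟨v, hv.1⟩ : M) ^ S.relIndex C)⁻¹ ∈ W.subgroupOf M := by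
      rw [← hcard, ← Finset.card_univ, ← Finset.prod_const, ← Finset.prod_inv_distrib,
        ← Finset.prod_mul_distrib]
      refine prod_mem fun q _ => mem_subgroupOf.mpr ?_
      rw [Subgroup.coe_mul, fval v hv.1, Subgroup.coe_inv]
      exact hW _ (q.out : C).2
    exact mem_subgroupOf.mp h1
  · let φ : M →* M := MonoidHom.mk' (fun x => ⟨t * x * t⁻¹,
      (mem_normalizer_iff.mp htM x).mp x.2⟩) (fun x y => Subtype.ext (by simp [mul_assoc]))
    have hv' : t * v * t⁻¹ ∈ M ⊓ centralizer (S : Set G) := by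
      refine ⟨(mem_normalizer_iff.mp htM v).mp hv.1, mem_centralizer_iff.mpr fun s hs => ?_⟩
      have hs' := mem_centralizer_iff.mp hv.2 _ ((mem_normalizer_iff''.mp htS s).mp hs)
      calc s * (t * v * t⁻¹) = t * ((t⁻¹ * s * t) * v) * t⁻¹ := by group
        _ = t * (v * (t⁻¹ * s * t)) * t⁻¹ := by rw [hs']
        _ = t * v * t⁻¹ * s := by group
    let σ : (C ⧸ S.subgroupOf C) → (C ⧸ S.subgroupOf C) := fun q =>
      ((⟨t * ((q.out : C) : G) * t⁻¹, (mem_normalizer_iff.mp htC _).mp (q.out : C).2⟩ : C) :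
        C ⧸ S.subgroupOf C)
    have hσ : Function.Bijective σ := by
      refine Finite.injective_iff_bijective.mp fun a b hab => ?_
      have h3 := mem_subgroupOf.mp (QuotientGroup.eq.mp hab)
      rw [← QuotientGroup.out_eq' a, ← QuotientGroup.out_eq' b]
      refine QuotientGroup.eq.mpr (mem_subgroupOf.mpr ?_)
      refine (mem_normalizer_iff.mp htS _).mpr ?_
      simpa [mul_assoc] using h3
    have h2 : φ (∏ q, f v q) = ∏ q, f (t * v * t⁻¹) q := by
      rw [map_prod]
      refine Fintype.prod_equiv (Equiv.ofBijective σ hσ) _ _ fun q => ?_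
      refine Subtype.ext ?_
      show t * (f v q : G) * t⁻¹ = (f (t * v * t⁻¹) (σ q) : G)
      rw [key _ hv', fval v hv.1]
      simp [mul_assoc]
    exact (congrArg Subtype.val h2).symm

omit [Finite G] in
theorem mem_of_pow_mem_elem {M : Subgroup G} {v : G} (hvp : v ^ p = 1) {m : ℕ} (hm : ¬ p ∣ m)
    (h : v ^ m ∈ M) : v ∈ M :=
  H74.PRed.mem_of_pow_pow ((Fact.out : p.Prime).coprime_iff_not_dvd.mpr hm)
    (by rw [hvp]; exact one_mem M) h

/-- `Ω₁(Z(O_p(B)))`. -/
abbrev modOf (p : ℕ) (B : Subgroup G) : Subgroup G := H74.omegaZ p (Cfsg.pCoreOf p B)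

omit [Finite G] hp in
theorem normalizer_le_normalizer_modOf (B : Subgroup G) :
    normalizer (B : Set G) ≤ normalizer (modOf p B : Set G) := fun g hg =>
  H74.mem_normalizer_of_map_conj (by
    rw [← H74.omegaZ_map _ _ (MulAut.conj g).injective, ← H74.pCoreOf_map _ _ (MulAut.conj g).injective,
      H74.map_conj_eq_self hg])

omit [Finite G] hp in
theorem modOf_elemAb (B : Subgroup G) : Cfsg.IsElementaryAbelian p (modOf p B) :=
  omegaOne_elemAb (centre_abelian _)

theorem omegaZ_le_modOf {T B : Subgroup G} (hB : H76.CharPIn p B) (hT : H74.IsSylIn p T B) :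
    H74.omegaZ p T ≤ modOf p B := by
  have hQT : Cfsg.pCoreOf p B ≤ T := H74.pCoreOf_le_sylIn hT
  refine (Subgroup.closure_le _).mpr fun x hx => subset_closure ⟨?_, hx.2⟩
  obtain ⟨hxT, hxc⟩ := hx.1
  have hxQ : x ∈ centralizer (Cfsg.pCoreOf p B : Set G) := centralizer_le hQT hxc
  exact ⟨hB ⟨hT.le hxT, hxQ⟩, hxQ⟩

omit [Finite G] hp in
theorem mem_omegaZ_pow {T : Subgroup G} {z : G} (hz : z ∈ H74.omegaZ p T) : z ^ p = 1 :=
  (omegaOne_elemAb (centre_abelian T)).2 z hz

theorem kieler_step {T A B : Subgroup G} (hAB : A ≤ B) (hBA : B ≤ normalizer (A : Set G))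
    (hB : H76.CharPIn p B) (hT : H74.IsSylIn p T B) :
    A ⊓ centralizer (H74.omegaZ p T : Set G) = A ⊓ centralizer (H74.omegaZ p (T ⊓ A) : Set G) := by
  have hA : H76.CharPIn p A := hB.normal hAB hBA
  have hS := sylIn_inf hAB hBA hT
  set S := T ⊓ A with hSdef
  have hTA : T ≤ normalizer (A : Set G) := hT.le.trans hBA
  have hTS : T ≤ normalizer (S : Set G) :=
    (le_inf le_normalizer hTA).trans (normalizer_inf_le_normalizer_inf _ _)
  have hZc : H74.omegaZ p T ≤ centralizer (T : Set G) := (H75.omegaOne_le _).trans inf_le_right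
  refine le_antisymm ?_ ?_
  · -- `C_A(Z) ≤ C_A(Z')`
    set C := A ⊓ centralizer (H74.omegaZ p T : Set G) with hC
    have hTC : T ≤ normalizer (C : Set G) := by
      refine (le_inf hTA ?_).trans (normalizer_inf_le_normalizer_inf _ _)
      refine le_trans ?_ (normalizer_le_normalizer_centralizer _)
      exact (le_centralizer_iff.mp hZc).trans (centralizer_le_normalizer _)
    have hSC : S ≤ C := le_inf inf_le_right (inf_le_left.trans (le_centralizer_iff.mp hZc))
    set M := modOf p A with hM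
    have hMel := modOf_elemAb (p := p) A
    have hCM : C ≤ normalizer (M : Set G) :=
      (inf_le_left.trans le_normalizer).trans (normalizer_le_normalizer_modOf A)
    have hTM : T ≤ normalizer (M : Set G) := hTA.trans (normalizer_le_normalizer_modOf A)
    obtain ⟨τ, h1, h2, h3, -, h5⟩ := exists_average M C S (elemAb_le_centralizer hMel) hCM hSC
    have hidx := not_dvd_relIndex (hS.of_le hSC (inf_le_left (a := A)))
    have hone : τ 1 = 1 := by rw [h3 1 (one_mem _), one_pow]
    let K0 : Subgroup G :=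
      { carrier := {v | v ∈ M ⊓ centralizer (S : Set G) ∧ τ v = 1}
        one_mem' := ⟨one_mem _, hone⟩
        mul_mem' := fun {a b} ha hb => ⟨mul_mem ha.1 hb.1, by rw [h2 a ha.1 b hb.1, ha.2, hb.2, one_mul]⟩
        inv_mem' := fun {a} ha => ⟨inv_mem ha.1, by
          have h := h2 a ha.1 a⁻¹ (inv_mem ha.1)
          rwa [mul_inv_cancel, hone, ha.2, one_mul, eq_comm] at h⟩ }
    have hK0T : T ≤ normalizer (K0 : Set G) := by
      refine le_normalizer_of_conj fun t ht v hv => ⟨⟨conj_mem_of_mem_normalizer (hTM ht) hv.1.1, ?_⟩, ?_⟩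
      · exact conj_mem_of_mem_normalizer (normalizer_le_normalizer_centralizer S (hTS ht)) hv.1.2
      · rw [h5 t (hTM ht) (hTC ht) (hTS ht) v hv.1, hv.2, mul_one, mul_inv_cancel]
    have hK0 : K0 = ⊥ := by
      by_contra hne
      have hMp : IsPGroup p K0 := (elemAb_isPGroup hMel).to_le (fun v hv => hv.1.1)
      have hsup : IsPGroup p ↥(K0 ⊔ T) := IsPGroup.to_sup_of_normal_left' hMp hT.isPGroup hK0T
      haveI : (K0.subgroupOf (K0 ⊔ T)).Normal :=
        normal_subgroupOf_of_le_normalizer (sup_le le_normalizer hK0T)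
      obtain ⟨u, hu, hu1, -, huc⟩ := H83.exists_central_order_p hsup (K0.subgroupOf (K0 ⊔ T))
        (fun h => hne (by
          rw [← map_subgroupOf_eq_of_le (le_sup_left : K0 ≤ K0 ⊔ T), h, Subgroup.map_bot]))
      obtain ⟨huX, huτ⟩ := mem_subgroupOf.mp hu
      have huT : (u : G) ∈ centralizer (T : Set G) := mem_centralizer_iff.mpr fun t ht =>
        congrArg Subtype.val (huc ⟨t, mem_sup_right ht⟩)
      have huA : (u : G) ∈ A :=
        ((H75.omegaOne_le _).trans (inf_le_left.trans (H74.pCoreOf_le A))) huX.1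
      have hup : (u : G) ^ p = 1 := hMel.2 _ huX.1
      have huZ : (u : G) ∈ H74.omegaZ p T :=
        subset_closure ⟨⟨mem_sylow_of_commute hT (hAB huA) hup huT, huT⟩, hup⟩
      have huC : (u : G) ∈ centralizer (C : Set G) := le_centralizer_iff.mp inf_le_right huZ
      rw [h3 _ ⟨huX.1, huC⟩] at huτ
      have hu' : (u : G) = 1 :=
        mem_bot.mp (mem_of_pow_mem_elem hup hidx (by rw [huτ]; exact one_mem ⊥))
      exact hu1 (Subtype.ext hu')
    refine le_inf inf_le_left (le_centralizer_iff.mp fun v hv => ?_)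
    have hvM : v ∈ M := omegaZ_le_modOf hA hS hv
    have hvX : v ∈ M ⊓ centralizer (S : Set G) := ⟨hvM, ((H75.omegaOne_le _) hv).2⟩
    set m := S.relIndex C with hm
    have hτ := h1 v hvX
    have hτX : τ v ∈ M ⊓ centralizer (S : Set G) := ⟨hτ.1, centralizer_le hSC hτ.2⟩
    have hmem : τ v * (v ^ m)⁻¹ ∈ K0 := by
      refine ⟨mul_mem hτX (inv_mem (pow_mem hvX m)), ?_⟩
      have hpow : ∀ k, τ (v ^ k) = τ v ^ k := by
        intro k
        induction k with
        | zero => rw [pow_zero, pow_zero, hone]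
        | succ k ih => rw [pow_succ, pow_succ, h2 _ (pow_mem hvX k) _ hvX, ih]
      have h := h2 _ (mul_mem hτX (inv_mem (pow_mem hvX m))) _ (pow_mem hvX m)
      rw [inv_mul_cancel_right, h3 _ hτ, hpow] at h
      exact mul_eq_right.mp h.symm
    rw [hK0, mem_bot, mul_inv_eq_one] at hmem
    exact mem_of_pow_mem_elem (mem_omegaZ_pow hv) hidx (hmem ▸ hτ.2)
  · -- `C_A(Z') ≤ C_A(Z)`
    rintro c ⟨hcA, hc⟩
    refine ⟨hcA, mem_centralizer_iff.mpr fun z hz => ?_⟩
    set M := modOf p B with hM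
    have hMel := modOf_elemAb (p := p) B
    have hBM : B ≤ normalizer (M : Set G) := le_normalizer.trans (normalizer_le_normalizer_modOf B)
    obtain ⟨τ, h1, -, -, h4, -⟩ := exists_average M A S (elemAb_le_centralizer hMel)
      (hAB.trans hBM) inf_le_right
    have hzX : z ∈ M ⊓ centralizer (S : Set G) :=
      ⟨omegaZ_le_modOf hB hT hz, centralizer_le inf_le_left (hZc hz)⟩
    have hzB : z ∈ B := hT.le (((H75.omegaOne_le _) hz).1)
    have hw := h4 z hzX (M ⊓ A) fun a ha => ⟨by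
      rw [commutatorElement_def]
      show _ ∈ M
      exact mul_mem (conj_mem_of_mem_normalizer (hBM (hAB ha)) hzX.1) (inv_mem (show z ∈ M from hzX.1)), by
      rw [commutatorElement_def, mul_assoc, mul_assoc]
      exact mul_mem ha (by simpa [mul_assoc] using conj_mem_of_mem_normalizer (hBA hzB) (inv_mem ha))⟩
    set m := S.relIndex A
    have hwS : τ z * (z ^ m)⁻¹ ∈ centralizer (S : Set G) :=
      mul_mem (centralizer_le inf_le_right (h1 z hzX).2) (inv_mem (pow_mem (show z ∈ centralizer (S : Set G) from hzX.2) m))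
    have hwp : (τ z * (z ^ m)⁻¹) ^ p = 1 := hMel.2 _ hw.1
    have hwZ : τ z * (z ^ m)⁻¹ ∈ H74.omegaZ p S :=
      subset_closure ⟨⟨mem_sylow_of_commute hS hw.2 hwp hwS, hwS⟩, hwp⟩
    have h6 : Commute (τ z * (z ^ m)⁻¹) c := mem_centralizer_iff.mp hc _ hwZ
    have h7 : Commute (τ z) c := (mem_centralizer_iff.mp (h1 z hzX).2 c hcA).symm
    have h8 : Commute (z ^ m) c := by
      have h9 := (h7.inv_left.mul_left h6).inv_left
      rwa [inv_mul_cancel_left, inv_inv] at h9
    have h10 : z ∈ centralizer ({c} : Set G) := mem_of_pow_mem_elem (mem_omegaZ_pow hz)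
      (not_dvd_relIndex hS) (mem_centralizer_singleton_iff.mpr h8.eq)
    exact mem_centralizer_singleton_iff.mp h10

theorem kieler {T : Sylow p G} (hG : H76.CharPIn p (⊤ : Subgroup G)) {L : Subgroup G}
    (hL : L.IsSubnormal) :
    H76.CharPIn p L ∧ H74.IsSylIn p ((T : Subgroup G) ⊓ L) L ∧
      L ⊓ centralizer (H74.omegaZ p (T : Subgroup G) : Set G) =
        L ⊓ centralizer (H74.omegaZ p ((T : Subgroup G) ⊓ L) : Set G) := by
  induction hL with
  | top =>
    refine ⟨hG, ⟨inf_le_right, ?_⟩, ?_⟩ <;> rw [inf_top_eq]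
    rw [card_top]
    exact T.card_eq_multiplicity
  | step A B hAB _ hA ih =>
    have hBA := (normal_subgroupOf_iff_le_normalizer hAB).mp hA
    obtain ⟨hB, hTB, heq⟩ := ih
    have hTA := sylIn_inf hAB hBA hTB
    rw [inf_assoc, inf_eq_right.mpr hAB] at hTA
    refine ⟨hB.normal hAB hBA, hTA, ?_⟩
    have hstep := kieler_step hAB hBA hB hTB
    rw [inf_assoc, inf_eq_right.mpr hAB] at hstep
    rw [← hstep, ← inf_eq_left.mpr hAB, inf_assoc, heq, ← inf_assoc]

end H74.Kieler
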