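import Cfsg.Agent.H74.SL2
import Cfsg.Prelude.Def_LocalEven

/-!
The natural `SL₂`-module in coordinates adapted to a Sylow subgroup.
-/

set_option autoImplicit false

namespace H74.NatMod

open Matrix

variable {G : Type*} [Group G] {F : Type*} [Field F]

/-- `L` acts faithfully on `V` as `SL₂(F)` on `F²`, in coordinates in which `T` is the upper
root subgroup. -/
structure Adapted (F : Type*) [Field F] (V L T : Subgroup G) where
  e : L ≃* Matrix.SpecialLinearGroup (Fin 2) F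
  co : Additive V ≃+ (Fin 2 → F)
  le : T ≤ L
  mem_iff : ∀ l : L, (l : G) ∈ T ↔ e l ∈ SL2.upper F
  conj_mem : ∀ l : L, ∀ v : V, (l : G) * (v : G) * (l : G)⁻¹ ∈ V
  conj_co : ∀ (l : L) (v : V), co (Additive.ofMul ⟨(l : G) * (v : G) * (l : G)⁻¹, conj_mem l v⟩) =
    ((e l : Matrix.SpecialLinearGroup (Fin 2) F) : Matrix (Fin 2) (Fin 2) F).mulVec
      (co (Additive.ofMul v))

theorem exists_adapted [Finite G] {p : ℕ} [Fact p.Prime] [Fintype F] (n : ℕ)
    (hF : Fintype.card F = p ^ n) (V L : Subgroup G) (hnat : Cfsg.IsNaturalSL2Module F V L)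
    (hf : L ⊓ Subgroup.centralizer (V : Set G) = ⊥) (S : Sylow p L) :
    Nonempty (Adapted F V L ((S : Subgroup L).map L.subtype)) := by
  haveI := charP_of_card_eq_prime_pow (R := F) hF
  obtain ⟨hVn, ρ, ψ, hs, hk, hact⟩ := hnat
  have hinj : Function.Injective ρ := by
    rw [← MonoidHom.ker_eq_bot_iff, hk, Subgroup.eq_bot_iff_forall]
    intro l hl
    have h1 : (l : G) ∈ L ⊓ Subgroup.centralizer (V : Set G) :=
      ⟨l.2, Subgroup.mem_subgroupOf.mp hl⟩
    rw [hf, Subgroup.mem_bot] at h1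
    exact Subtype.ext h1
  let e₀ := MulEquiv.ofBijective ρ ⟨hinj, hs⟩
  obtain ⟨γ, hγ⟩ := MulAction.exists_smul_eq (Matrix.SpecialLinearGroup (Fin 2) F)
    (S.mapSurjective (f := ρ) hs) (SL2.upperSylow (F := F) p)
  have hconj_mem : ∀ l : L, ∀ v : V, (l : G) * (v : G) * (l : G)⁻¹ ∈ V := fun l v =>
    (Subgroup.mem_normalizer_iff.mp (hVn l.2) v).mp v.2
  have hγ' : ((S : Subgroup L).map ρ).map (MulAut.conj γ).toMonoidHom = SL2.upper F :=
    congrArg Sylow.toSubgroup hγ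
  let M : (Fin 2 → F) ≃+ (Fin 2 → F) :=
    { toFun := fun w => (γ : Matrix (Fin 2) (Fin 2) F).mulVec w
      invFun := fun w => ((γ⁻¹ : Matrix.SpecialLinearGroup (Fin 2) F) :
        Matrix (Fin 2) (Fin 2) F).mulVec w
      left_inv := fun w => by
        simp only [Matrix.mulVec_mulVec, ← Matrix.SpecialLinearGroup.coe_mul, inv_mul_cancel,
          Matrix.SpecialLinearGroup.coe_one, Matrix.one_mulVec]
      right_inv := fun w => by
        simp only [Matrix.mulVec_mulVec, ← Matrix.SpecialLinearGroup.coe_mul, mul_inv_cancel,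
          Matrix.SpecialLinearGroup.coe_one, Matrix.one_mulVec]
      map_add' := fun a b => Matrix.mulVec_add _ a b }
  refine ⟨⟨e₀.trans (MulAut.conj γ), ψ.trans M, Subgroup.map_subtype_le _, fun l => ?_, hconj_mem,
    fun l v => ?_⟩⟩
  · rw [← hγ', Subgroup.map_map]
    have hinj' : Function.Injective ((MulAut.conj γ).toMonoidHom.comp ρ) :=
      (MulAut.conj γ).injective.comp hinj
    change _ ↔ ((MulAut.conj γ).toMonoidHom.comp ρ) l ∈ _
    rw [Subgroup.mem_map_iff_mem hinj']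
    exact Subgroup.mem_map_iff_mem L.subtype_injective
  · obtain ⟨w, hw, hψ⟩ := hact l v
    have hw' : (⟨(l : G) * (v : G) * (l : G)⁻¹, hconj_mem l v⟩ : V) = w := Subtype.ext hw.symm
    rw [hw']
    change (γ : Matrix (Fin 2) (Fin 2) F).mulVec (ψ (Additive.ofMul w)) =
      ((γ * ρ l * γ⁻¹ : Matrix.SpecialLinearGroup (Fin 2) F) : Matrix (Fin 2) (Fin 2) F).mulVec
        ((γ : Matrix (Fin 2) (Fin 2) F).mulVec (ψ (Additive.ofMul v)))
    rw [hψ]
    simp only [Matrix.mulVec_mulVec, ← Matrix.SpecialLinearGroup.coe_mul, inv_mul_cancel_right]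

namespace Adapted

variable {V L T : Subgroup G} (D : Adapted F V L T)

/-- The coordinate vector of an element of `V`. -/
def vecOf {v : G} (hv : v ∈ V) : Fin 2 → F := D.co (Additive.ofMul ⟨v, hv⟩)

theorem vecOf_inj {v w : G} {hv : v ∈ V} {hw : w ∈ V} (h : D.vecOf hv = D.vecOf hw) : v = w :=
  congrArg Subtype.val (Additive.ofMul.injective (D.co.injective h))

theorem vecOf_surj (w : Fin 2 → F) : ∃ (v : G) (hv : v ∈ V), D.vecOf hv = w :=
  ⟨(Additive.toMul (D.co.symm w) : V), (Additive.toMul (D.co.symm w)).2,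
    D.co.apply_symm_apply w⟩

theorem vecOf_mul {v w : G} (hv : v ∈ V) (hw : w ∈ V) :
    D.vecOf (mul_mem hv hw) = D.vecOf hv + D.vecOf hw :=
  map_add D.co (Additive.ofMul ⟨v, hv⟩) (Additive.ofMul ⟨w, hw⟩)

theorem vecOf_inv {v : G} (hv : v ∈ V) : D.vecOf (inv_mem hv) = -D.vecOf hv :=
  map_neg D.co (Additive.ofMul ⟨v, hv⟩)

theorem vecOf_one : D.vecOf (one_mem V) = 0 := map_zero D.co

theorem vecOf_eq_zero {v : G} (hv : v ∈ V) (h : D.vecOf hv = 0) : v = 1 :=
  D.vecOf_inj (h.trans D.vecOf_one.symm)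

theorem vecOf_conj (l : L) {v : G} (hv : v ∈ V) :
    D.vecOf (D.conj_mem l ⟨v, hv⟩) = (D.e l : Matrix (Fin 2) (Fin 2) F).mulVec (D.vecOf hv) :=
  D.conj_co l ⟨v, hv⟩

theorem commute_iff (l : L) {v : G} (hv : v ∈ V) :
    v * (l : G) = (l : G) * v ↔
      (D.e l : Matrix (Fin 2) (Fin 2) F).mulVec (D.vecOf hv) = D.vecOf hv := by
  rw [← D.vecOf_conj l hv]
  constructor
  · intro h
    have : (l : G) * v * (l : G)⁻¹ = v := by rw [← h, mul_inv_cancel_right]
    congr 1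
  · intro h
    have h2 := D.vecOf_inj h
    conv_lhs => rw [← h2, inv_mul_cancel_right]

theorem exists_uT (x : F) : ∃ l : L, (l : G) ∈ T ∧ D.e l = SL2.uT x :=
  ⟨D.e.symm (SL2.uT x),
    (D.mem_iff _).mpr (by rw [MulEquiv.apply_symm_apply]; exact SL2.mem_upper.mpr ⟨x, rfl⟩),
    D.e.apply_symm_apply _⟩

theorem mem_centralizerT_iff {v : G} :
    v ∈ V ⊓ Subgroup.centralizer (T : Set G) ↔ ∃ hv : v ∈ V, D.vecOf hv 1 = 0 := by
  constructor
  · rintro ⟨hv, hc⟩
    obtain ⟨l, hl, hle⟩ := D.exists_uT 1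
    refine ⟨hv, ?_⟩
    have h := congrFun ((D.commute_iff l hv).mp (Subgroup.mem_centralizer_iff.mp hc l hl).symm) 0
    rw [hle] at h
    simpa [SL2.coe_uT, Matrix.mulVec, dotProduct, Fin.sum_univ_two] using h
  · rintro ⟨hv, h0⟩
    refine ⟨hv, Subgroup.mem_centralizer_iff.mpr fun t ht => ?_⟩
    obtain ⟨x, hx⟩ := SL2.mem_upper.mp ((D.mem_iff ⟨t, D.le ht⟩).mp ht)
    refine ((D.commute_iff ⟨t, D.le ht⟩ hv).mpr ?_).symm
    rw [← hx]
    funext i
    fin_cases i <;> simp [SL2.coe_uT, Matrix.mulVec, dotProduct, Fin.sum_univ_two, h0]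

theorem mem_centralizer_one_iff {s v : G} (hs : s ∈ T) (hs1 : s ≠ 1) :
    v ∈ V ⊓ Subgroup.centralizer ({s} : Set G) ↔ ∃ hv : v ∈ V, D.vecOf hv 1 = 0 := by
  constructor
  · rintro ⟨hv, hc⟩
    refine ⟨hv, ?_⟩
    obtain ⟨x, hx⟩ := SL2.mem_upper.mp ((D.mem_iff ⟨s, D.le hs⟩).mp hs)
    have hx0 : x ≠ 0 := by
      rintro rfl
      apply hs1
      have h1 : D.e ⟨s, D.le hs⟩ = 1 := by
        rw [← hx]
        exact map_one (SL2.uHom F)
      exact congrArg Subtype.val (D.e.map_eq_one_iff.mp h1)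
    have h := congrFun ((D.commute_iff ⟨s, D.le hs⟩ hv).mp
      (Subgroup.mem_centralizer_singleton_iff.mp hc)) 0
    rw [← hx] at h
    simp [SL2.coe_uT, Matrix.mulVec, dotProduct, Fin.sum_univ_two] at h
    exact h.resolve_left hx0
  · intro h
    exact ⟨h.1, Subgroup.centralizer_le (Set.singleton_subset_iff.mpr hs)
      (D.mem_centralizerT_iff.mpr h).2⟩

include D in
theorem card_V [Fintype F] : Nat.card V = Fintype.card F ^ 2 := by
  rw [Nat.card_congr ((Additive.ofMul).trans D.co.toEquiv), Nat.card_eq_fintype_card,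
    Fintype.card_fun, Fintype.card_fin]

include D in
theorem card_centralizerT [Fintype F] :
    Nat.card ↥(V ⊓ Subgroup.centralizer (T : Set G)) = Fintype.card F := by
  rw [← Nat.card_eq_fintype_card]
  refine Nat.card_congr (Equiv.ofBijective
    (fun v : ↥(V ⊓ Subgroup.centralizer (T : Set G)) => D.vecOf v.2.1 0) ⟨?_, ?_⟩)
  · intro v w h
    refine Subtype.ext (D.vecOf_inj (hv := v.2.1) (hw := w.2.1) ?_)
    obtain ⟨hv, hv1⟩ := D.mem_centralizerT_iff.mp v.2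
    obtain ⟨hw, hw1⟩ := D.mem_centralizerT_iff.mp w.2
    funext i
    fin_cases i
    · exact h
    · exact hv1.trans hw1.symm
  · intro a
    obtain ⟨v, hv, hvw⟩ := D.vecOf_surj ![a, 0]
    exact ⟨⟨v, D.mem_centralizerT_iff.mpr ⟨hv, by simp [hvw]⟩⟩, by simp [hvw]⟩

include D in
theorem comm_mem {v : G} (hv : v ∈ V) (l : L) : v * (l : G) * v⁻¹ * (l : G)⁻¹ ∈ V := by
  have h := mul_mem hv (D.conj_mem l ⟨v⁻¹, inv_mem hv⟩)
  simpa [mul_assoc] using h

theorem vecOf_comm {v : G} (hv : v ∈ V) (l : L) (x : F) (hl : D.e l = SL2.uT x) :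
    D.vecOf (D.comm_mem hv l) = ![-(x * D.vecOf hv 1), 0] := by
  have h : D.vecOf (D.comm_mem hv l) =
      D.vecOf (mul_mem hv (D.conj_mem l ⟨v⁻¹, inv_mem hv⟩)) := by
    congr 1
    group
  rw [h, D.vecOf_mul hv (D.conj_mem l ⟨v⁻¹, inv_mem hv⟩), D.vecOf_conj l (inv_mem hv), D.vecOf_inv hv, hl]
  funext i
  fin_cases i <;> simp [SL2.coe_uT, Matrix.mulVec, dotProduct, Fin.sum_univ_two]

include D in
theorem comm_le : ⁅V, T⁆ ≤ V ⊓ Subgroup.centralizer (T : Set G) :=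
  Subgroup.commutator_le.mpr fun v hv t ht => by
    rw [commutatorElement_def]
    obtain ⟨x, hx⟩ := SL2.mem_upper.mp ((D.mem_iff ⟨t, D.le ht⟩).mp ht)
    exact D.mem_centralizerT_iff.mpr ⟨D.comm_mem hv ⟨t, D.le ht⟩,
      by rw [D.vecOf_comm hv ⟨t, D.le ht⟩ x hx.symm]; rfl⟩

end Adapted

end H74.NatMod
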