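import Cfsg.Agent.H75.PReduced2
import Cfsg.Agent.H76.CharP
import Cfsg.Agent.H1.CoprimeAction
import Cfsg.Agent.H74.SylIn

/-!
`p`-reduced normal subgroups: closure over an overgroup of a Sylow subgroup, the structure of
`Y_L`, commutators with residuals of subnormal subgroups.
-/

set_option autoImplicit false

namespace H74.PRed

open Subgroup H75
open scoped commutatorElement

variable {G : Type*} [Group G] [Finite G] {p : ℕ} [hp : Fact p.Prime]

omit [Finite G] hp in
theorem mem_of_pow_pow {C : Subgroup G} {x : G} {a b : ℕ} (hab : a.Coprime b) (ha : x ^ a ∈ C)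
    (hb : x ^ b ∈ C) : x ∈ C := by
  have h : x ^ ((a : ℤ) * a.gcdA b + (b : ℤ) * a.gcdB b) = x := by
    rw [← Nat.gcd_eq_gcd_ab, hab, Nat.cast_one, zpow_one]
  rw [← h, zpow_add, zpow_mul, zpow_mul, zpow_natCast, zpow_natCast]
  exact mul_mem (zpow_mem ha _) (zpow_mem hb _)

theorem le_pCore_centralizer {V : Subgroup G} (hV : RedIn p V ⊤) :
    Cfsg.pCore p G ≤ centralizer (V : Set G) := by
  rw [← H75.pCoreOf_top]; exact hV.pCoreOf_le

theorem redIn_normalClosure
    (hchar : centralizer (Cfsg.pCore p G : Set G) ≤ Cfsg.pCore p G) (T : Sylow p G)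
    {R : Subgroup G} (hTR : (T : Subgroup G) ≤ R) {X : Subgroup G} (hX : RedIn p X R) :
    RedIn p (normalClosure (X : Set G)) ⊤ := by
  haveI hQn : (Cfsg.pCore p G).Normal := H1.pCore_normal' p G
  have hQR : Cfsg.pCore p G ≤ Cfsg.pCoreOf p R :=
    H75.le_pCoreOf ((H1.pCore_le_sylow T).trans hTR) (by rw [normalizer_eq_top]; exact le_top)
      (H1.isPGroup_pCore p G)
  have hXQ : X ≤ centralizer (Cfsg.pCore p G : Set G) :=
    le_centralizer_iff.mp (hQR.trans hX.pCoreOf_le)
  have hXO : X ≤ Cfsg.omegaOne p (Cfsg.pCore p G ⊓ centralizer (Cfsg.pCore p G : Set G)) :=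
    le_omegaOne hX.elem.2 (le_inf (hXQ.trans hchar) hXQ)
  set O := Cfsg.omegaOne p (Cfsg.pCore p G ⊓ centralizer (Cfsg.pCore p G : Set G))
  have hO : Cfsg.IsElementaryAbelian p O := omegaOne_elemAb (centre_abelian _)
  haveI hOn : O.Normal := by
    refine Subgroup.Normal.mk fun y hy g => ?_
    have h := Subgroup.mem_map_of_mem (MulAut.conj g).toMonoidHom hy
    rw [← H74.omegaOne_map _ _ (MulAut.conj g).injective,
      H74.inf_centralizer_map _ _ _ (MulAut.conj g).injective,
      H74.map_conj_eq_self (show g ∈ normalizer (Cfsg.pCore p G : Set G) by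
        rw [normalizer_eq_top]; exact mem_top g)] at h
    exact h
  set W := normalClosure (X : Set G)
  refine ⟨le_top, by rw [normalizer_eq_top], elemAb_mono hO (normalClosure_le_normal hXO),
    fun N _ hN hp' => ?_⟩
  haveI : N.Normal := normal_of_top_le hN
  have hpX : PowInto p N (centralizer (X : Set G)) :=
    powInto_mono hp' le_rfl (centralizer_le subset_normalClosure)
  have hT : (T : Subgroup G) ⊓ N ≤ centralizer (X : Set G) :=
    (inf_le_inf_right N hTR).trans (hX.red _ inf_le_left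
      ((le_inf le_normalizer (le_top.trans hN)).trans (normalizer_inf_le_normalizer_inf _ _))
      (powInto_mono hpX inf_le_right le_rfl))
  exact le_centralizer_iff.mp (normalClosure_le_normal
    (N := centralizer (N : Set G)) (le_centralizer_iff.mp (le_of_powInto T hpX hT)))

theorem largest_structure (hchar : centralizer (Cfsg.pCore p G : Set G) ≤ Cfsg.pCore p G)
    (T : Sylow p G) (Y : Subgroup G) (hY : RedIn p Y ⊤)
    (hmax : ∀ V : Subgroup G, RedIn p V ⊤ → V ≤ Y) :
    let TL := (T : Subgroup G) ⊓ centralizer (Y : Set G)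
    (∀ g : G, ∃ a ∈ normalizer (TL : Set G), ∃ c ∈ centralizer (Y : Set G), g = a * c) ∧
      Cfsg.pCoreOf p (normalizer (TL : Set G)) = TL ∧
      Y = Cfsg.omegaOne p (TL ⊓ centralizer (TL : Set G)) := by
  intro TL
  haveI hYn : Y.Normal := normal_of_top_le hY.norm
  set C := centralizer (Y : Set G) with hC
  haveI hCn : C.Normal := inferInstance
  have hfr : normalizer (TL : Set G) ⊔ C = ⊤ := normalizer_inf_sup_eq_top T C
  have h1 : ∀ g : G, ∃ a ∈ normalizer (TL : Set G), ∃ c ∈ C, g = a * c := by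
    intro g
    have hg : g ∈ normalizer (TL : Set G) ⊔ C := hfr ▸ mem_top g
    obtain ⟨a, ha, c, hc, rfl⟩ := mem_sup_of_normal_right.mp hg
    exact ⟨a, ha, c, hc, rfl⟩
  set R := normalizer (TL : Set G)
  have hTLp : IsPGroup p TL := T.isPGroup'.to_inf_left
  have hTR : (T : Subgroup G) ≤ R :=
    (le_inf le_normalizer (by rw [normalizer_eq_top]; exact le_top)).trans
      (normalizer_inf_le_normalizer_inf _ _)
  -- `p`-subgroups of `C` normalised appropriately lie in `TL`
  have hmem : ∀ x ∈ C, x ∈ R → (∃ k, x ^ (p ^ k) = 1) → x ∈ TL := by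
    intro x hxC hxR hk
    obtain ⟨P, hP⟩ := exists_sylow_inf_normal T C
    have hs : H74.IsSylIn p TL C := by
      have h := H74.isSylIn_of_sylow P
      rwa [hP] at h
    have hz : IsPGroup p (zpowers x) := by
      rintro ⟨y, hy⟩
      obtain ⟨i, rfl⟩ := mem_zpowers_iff.mp hy
      obtain ⟨k, hk⟩ := hk
      refine ⟨k, Subtype.ext ?_⟩
      show (x ^ i) ^ (p ^ k) = 1
      rw [← zpow_natCast, ← zpow_mul, mul_comm, zpow_mul, zpow_natCast, hk, one_zpow]
    have hsup : IsPGroup p ↥(TL ⊔ zpowers x) :=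
      IsPGroup.to_sup_of_normal_left' hTLp hz (zpowers_le.mpr hxR)
    have hle : TL ⊔ zpowers x ≤ C := sup_le hs.le (zpowers_le.mpr hxC)
    have hcard : Nat.card ↥(TL ⊔ zpowers x) ≤ Nat.card TL := by
      obtain ⟨j, hj⟩ := IsPGroup.iff_card.mp hsup
      rw [hj, hs.2]
      refine Nat.pow_le_pow_right hp.out.pos ?_
      exact (hp.out.pow_dvd_iff_le_factorization Nat.card_pos.ne').mp (hj ▸ card_dvd_of_le hle)
    rw [eq_of_le_of_card_ge (le_sup_left (b := zpowers x)) hcard]
    exact mem_sup_right (mem_zpowers x)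
  -- subgroups normalised by `R` which are `p`-groups modulo `C` lie in `C`
  have hred : ∀ D : Subgroup G, D ≤ R → R ≤ normalizer (D : Set G) → PowInto p D C → D ≤ C := by
    intro D _ hRD hDp
    have hCnorm : ∀ H : Subgroup G, H ≤ normalizer (C : Set G) := fun H => by
      rw [normalizer_eq_top]; exact le_top
    refine le_sup_left.trans (hY.red (D ⊔ C) le_top ?_ (powInto_sup hDp (hCnorm D)))
    rw [← hfr]
    refine sup_le ((le_inf hRD (hCnorm R)).trans (normalizer_inf_le_normalizer_sup D C)) ?_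
    exact le_sup_right.trans le_normalizer
  have hTLR : TL ≤ R := le_normalizer
  refine ⟨h1, le_antisymm (fun x hx => ?_) (H75.le_pCoreOf hTLR le_rfl hTLp), ?_⟩
  · have hq : IsPGroup p (Cfsg.pCoreOf p R) := isPGroup_pCoreOf R
    refine hmem x (hred _ (H75.pCoreOf_le R) (H75.le_normalizer_pCoreOf R)
      (powInto_of_isPGroup hq) hx) (H75.pCoreOf_le R hx) ?_
    obtain ⟨k, hk⟩ := hq ⟨x, hx⟩
    exact ⟨k, congrArg Subtype.val hk⟩
  set U := Cfsg.omegaOne p (TL ⊓ centralizer (TL : Set G)) with hU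
  have hYU : Y ≤ U := by
    refine elemAb_le_omega_centre hY.elem (le_inf ?_ (elemAb_le_centralizer hY.elem)) inf_le_right
    refine le_trans ?_ (H1.pCore_le_sylow T)
    rw [← H75.pCoreOf_top]
    exact hY.le_pCoreOf
  refine le_antisymm hYU ?_
  have hUR : RedIn p U R := by
    refine ⟨((H75.omegaOne_le _).trans inf_le_left).trans hTLR, ?_,
      omegaOne_elemAb (centre_abelian TL), ?_⟩
    · intro g hg
      refine H74.mem_normalizer_of_map_conj ?_
      rw [hU, ← H74.omegaOne_map _ _ (MulAut.conj g).injective,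
        H74.inf_centralizer_map _ _ _ (MulAut.conj g).injective, H74.map_conj_eq_self hg]
    intro D hDR hRD hDp x hx
    have hDC : D ≤ C := hred D hDR hRD (powInto_mono hDp le_rfl (centralizer_le hYU))
    obtain ⟨k, hk⟩ := exists_pow_coprime (p := p) x
    set y := x ^ (p ^ k) with hy
    obtain ⟨j, hj⟩ := hDp y (pow_mem hx _)
    refine mem_of_pow_pow (a := p ^ k) (b := orderOf y)
      (Nat.Coprime.pow_left k hk.symm) ?_ ?_
    · refine mem_of_pow_pow (a := p ^ j) (b := orderOf y) (Nat.Coprime.pow_left j hk.symm) hj ?_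
      rw [pow_orderOf_eq_one]; exact one_mem _
    · have hw : x ^ orderOf y ∈ TL := by
        refine hmem _ (pow_mem (hDC hx) _) (pow_mem (hDR hx) _) ⟨k, ?_⟩
        rw [← pow_mul, mul_comm, pow_mul, ← hy, pow_orderOf_eq_one]
      exact le_centralizer_iff.mp ((H75.omegaOne_le _).trans inf_le_right) hw
  exact subset_normalClosure.trans (hmax _ (redIn_normalClosure hchar T hTR hUR))

omit [Finite G] hp in
theorem commutator_le_of_closure {V M R : Subgroup G} {s : Set G} (hR : R = closure s)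
    (hM : R ≤ normalizer (M : Set G)) (h : ∀ v ∈ V, ∀ x ∈ s, ⁅v, x⁆ ∈ M) : ⁅V, R⁆ ≤ M := by
  rw [commutator_le]
  intro v hv x hx
  rw [hR] at hx hM
  induction hx using Subgroup.closure_induction generalizing v with
  | mem x hx => exact h v hv x hx
  | one => simp
  | mul a b ha _ iha ihb =>
    have e : ⁅v, a * b⁆ = ⁅v, a⁆ * (a * ⁅v, b⁆ * a⁻¹) := by simp [commutatorElement_def, mul_assoc]
    rw [e]
    exact mul_mem (iha v hv) (conj_mem_of_mem_normalizer (hM ha) (ihb v hv))
  | inv a ha iha =>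
    have e : ⁅v, a⁻¹⁆ = a⁻¹ * ⁅v, a⁆⁻¹ * a := by simp [commutatorElement_def, mul_assoc]
    rw [e]
    exact conj'_mem_of_mem_normalizer (hM ha) (inv_mem (iha v hv))

theorem coprime_commutator_eq {V : Subgroup G} (hV : IsPGroup p V) {x : G}
    (hx : (orderOf x).Coprime p) (hxV : x ∈ normalizer (V : Set G)) :
    ⁅⁅V, zpowers x⁆, zpowers x⁆ = ⁅V, zpowers x⁆ := by
  refine H1.commutator_commutator_eq (zpowers_le.mpr hxV) ?_ (Or.inl inferInstance)
  obtain ⟨n, hn⟩ := IsPGroup.iff_card.mp hV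
  rw [Nat.card_zpowers, hn]
  exact Nat.Coprime.pow_right n hx

/-- `[V, O^p(K)] = [V, O^p(K), O^p(K)]`. -/
theorem commutator_resOf_le {V K : Subgroup G} (hV : IsPGroup p V)
    (hKV : K ≤ normalizer (V : Set G)) : ⁅V, resOf p K⁆ ≤ ⁅⁅V, resOf p K⁆, resOf p K⁆ := by
  refine commutator_le_of_closure rfl (normalizer_commutator_ge_right _ _) fun v hv x hx => ?_
  have hxR : zpowers x ≤ resOf p K := zpowers_le.mpr (subset_closure hx)
  have h := commutator_mem_commutator hv (mem_zpowers x)
  rw [← coprime_commutator_eq hV hx.2 (hKV hx.1)] at h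
  exact commutator_mono (commutator_mono le_rfl hxR) hxR h

theorem commutator_resOf_le_subnormal {V K : Subgroup G} (hV : IsPGroup p V)
    (hVn : ∀ g : G, g ∈ normalizer (V : Set G)) :
    ∀ B : Subgroup G, B.IsSubnormal → K ≤ B → ⁅V, resOf p K⁆ ≤ B := by
  intro B hB
  induction hB with
  | top => exact fun _ => le_top
  | step A B hAB _ hA ih =>
    intro hKA
    have hBA := (normal_subgroupOf_iff_le_normalizer hAB).mp hA
    refine (commutator_resOf_le hV fun g _ => hVn g).trans ((commutator_mono (ih (hKA.trans hAB))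
      ((resOf_le K).trans hKA)).trans ?_)
    rw [commutator_le]
    intro b hb a ha
    exact mul_mem (conj_mem_of_mem_normalizer (hBA hb) ha) (inv_mem ha)

theorem redIn_commutator_resOf {V K : Subgroup G} (hV : RedIn p V ⊤) (hK : K.IsSubnormal) :
    ⁅V, resOf p K⁆ ≤ K ∧ RedIn p ⁅V, resOf p K⁆ K := by
  haveI hVn : V.Normal := normal_of_top_le hV.norm
  have hVn' : ∀ g : G, g ∈ normalizer (V : Set G) := fun g => hV.norm (mem_top g)
  have hVp := elemAb_isPGroup hV.elem
  have hWV : ⁅V, resOf p K⁆ ≤ V := commutator_le_left V _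
  have hWK := commutator_resOf_le_subnormal hVp hVn' K hK le_rfl
  refine ⟨hWK, hWK, (le_inf (fun g _ => hVn' g)
    (le_normalizer.trans (normalizer_le_normalizer_resOf K))).trans
    (normalizer_inf_le_normalizer_commutator _ _), elemAb_mono hV.elem hWV, fun D hDK hKD hDp => ?_⟩
  refine le_trans ?_ (centralizer_le hWV)
  have hDp' : PowInto p D (centralizer (V : Set G)) := by
    intro d hd
    obtain ⟨k, hk⟩ := hDp d hd
    obtain ⟨j, hj⟩ := exists_pow_coprime (p := p) (d ^ (p ^ k))
    refine ⟨k + j, ?_⟩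
    rw [pow_add, pow_mul]
    set y := (d ^ (p ^ k)) ^ (p ^ j) with hy
    have hyK : y ∈ K := pow_mem (pow_mem (hDK hd) _) _
    have hyW : y ∈ centralizer ((⁅V, resOf p K⁆ : Subgroup G) : Set G) := pow_mem hk _
    have hyR : y ∈ resOf p K := subset_closure ⟨hyK, hj⟩
    have hb : ⁅V, zpowers y⁆ = ⊥ := by
      rw [← coprime_commutator_eq hVp hj (hVn' y), commutator_eq_bot_iff_le_centralizer]
      intro w hw
      have hw' : w ∈ ⁅V, resOf p K⁆ := commutator_mono le_rfl (zpowers_le.mpr hyR) hw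
      rw [mem_centralizer_iff]
      intro z hz
      obtain ⟨i, rfl⟩ := mem_zpowers_iff.mp hz
      exact (Commute.zpow_left (mem_centralizer_iff.mp hyW w hw').symm i).eq
    exact commutator_eq_bot_iff_le_centralizer.mp (commutator_comm (zpowers y) V ▸ hb) (mem_zpowers y)
  obtain ⟨hn, -, hC, hbot⟩ := redIn_top_iff.mp hV
  intro d hd
  have hDs : D.IsSubnormal :=
    Subgroup.IsSubnormal.step D K hDK hK (normal_subgroupOf_of_le_normalizer hKD)
  have h1 : D.map (QuotientGroup.mk' (centralizer (V : Set G))) ≤ ⊥ := by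
    rw [← hbot]
    refine le_pCore_of_subnormal (hDs.map (QuotientGroup.mk'_surjective _)) ?_
    rintro ⟨_, x, hx, rfl⟩
    obtain ⟨k, hk⟩ := hDp' x hx
    exact ⟨k, Subtype.ext ((QuotientGroup.eq_one_iff _).mpr hk)⟩
  exact (QuotientGroup.eq_one_iff d).mp (mem_bot.mp (h1 (mem_map_of_mem _ hd)))

end H74.PRed
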