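import Cfsg.Agent.H74.Qd
import Cfsg.Agent.H74.ThompsonA
import Cfsg.Agent.H11.QdSection

/-!
`Qd(p)`-free groups are exactly those all of whose sections are `p`-stable.
-/

set_option autoImplicit false

namespace H74.QdStable

open Subgroup
open scoped commutatorElement

theorem isNormalizerPStable_of_free {p : ℕ} [Fact p.Prime] (hp : p ≠ 2) {G : Type*} [Group G]
    [Finite G] (hfree : ¬ Cfsg.Involves ↥(Cfsg.qd p) G) : Cfsg.IsNormalizerPStable p G := by
  intro P hP g hg hquad
  set N := normalizer (P : Set G) with hN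
  haveI : (P.subgroupOf N).Normal := normal_in_normalizer
  have hstab := H11.isPStableOn_of_not_involves_qd hp (Nat.card N) N le_rfl
    (fun h => hfree (H74.JA.involves_subgroup h)) (P.subgroupOf N)
    (hP.comap_of_injective N.subtype N.subtype_injective)
  have hq : ⁅⁅P.subgroupOf N, zpowers (⟨g, hg⟩ : N)⁆, zpowers (⟨g, hg⟩ : N)⁆ = ⊥ := by
    refine (map_eq_bot_iff_of_injective _ N.subtype_injective).mp ?_
    rw [map_commutator, map_commutator, MonoidHom.map_zpowers,
      map_subgroupOf_eq_of_le (le_normalizer : P ≤ N)]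
    exact hquad
  have h1 := hstab ⟨g, hg⟩ hq
  have hC : centralizer ((P.subgroupOf N : Subgroup N) : Set N) =
      (centralizer (P : Set G)).subgroupOf N := by
    ext x
    rw [mem_subgroupOf, mem_centralizer_iff, mem_centralizer_iff]
    exact ⟨fun h a ha => congrArg Subtype.val (h ⟨a, le_normalizer ha⟩ ha),
      fun h a ha => Subtype.ext (h a ha)⟩
  exact H1.map_pCore_le_of_surjective p (QuotientGroup.quotientMulEquivOfEq hC).toMonoidHom
    (QuotientGroup.quotientMulEquivOfEq hC).surjective ⟨_, h1, rfl⟩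

theorem not_isNormalizerPStable_of_equiv {p : ℕ} [Fact p.Prime] {Q : Type*} [Group Q] [Finite Q]
    (e : Q ≃* ↥(Cfsg.qd p)) : ¬ Cfsg.IsNormalizerPStable p Q := by
  intro hst
  let e' : Q ≃* ↥(Cfsg.qdOver (ZMod p)) := e
  let θ : Q →* Matrix.SpecialLinearGroup (Fin 2) (ZMod p) := Qd.lin.comp e'.toMonoidHom
  have hθ : Function.Surjective θ := fun A => ⟨e'.symm (Qd.mk A 0), by simp [θ]⟩
  set P := θ.ker with hP
  have hPp : IsPGroup p P := by
    intro x
    obtain ⟨k, hk⟩ := Qd.isPGroup_ker_lin (F := ZMod p) (p := p) ⟨e' (x : Q), x.2⟩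
    refine ⟨k, Subtype.ext (e'.injective ?_)⟩
    rw [SubmonoidClass.coe_pow, map_pow, OneMemClass.coe_one, map_one]
    exact congrArg Subtype.val hk
  set g := e'.symm (Qd.el (1 : ZMod p) 0) with hg
  have hgN : g ∈ normalizer (P : Set Q) := by rw [normalizer_eq_top]; exact mem_top g
  have hθg : θ g = SL2.uT 1 := by simp [θ, hg]
  -- translations in the fixed line of `g`
  let T : Subgroup Q :=
    { carrier := {x | θ x = 1 ∧ Qd.vec (e' x) 1 = 0}
      one_mem' := ⟨map_one θ, by rw [map_one, Qd.vec_one]; rfl⟩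
      mul_mem' := fun {a b} ha hb => ⟨by rw [map_mul, ha.1, hb.1, one_mul], by
        have hl : Qd.lin (e' a) = 1 := ha.1
        rw [map_mul, Qd.vec_mul, hl]
        simp [ha.2, hb.2]⟩
      inv_mem' := fun {a} ha => ⟨by rw [map_inv, ha.1, inv_one], by
        have hl : Qd.lin (e' a) = 1 := ha.1
        have h := Qd.vec_mul (e' a) (e' a)⁻¹
        rw [mul_inv_cancel, hl, Qd.vec_one] at h
        have h1 := congrFun h 1
        simp [ha.2] at h1
        rw [map_inv]; exact h1.symm⟩ }
  have hPT : ⁅P, zpowers g⁆ ≤ T := by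
    refine commutator_le.mpr fun x hx y hy => ⟨?_, ?_⟩
    · rw [commutatorElement_def, map_mul, map_mul, map_mul, map_inv, map_inv,
        MonoidHom.mem_ker.mp hx]
      group
    · obtain ⟨m, rfl⟩ := mem_zpowers_iff.mp hy
      have hxl : Qd.lin (e' x) = 1 := MonoidHom.mem_ker.mp hx
      have hx' : e' x = Qd.mk 1 (Qd.vec (e' x)) := by
        conv_lhs => rw [← Qd.mk_lin_vec (e' x), hxl]
      have hinv : (e' x)⁻¹ = Qd.mk 1 (-Qd.vec (e' x)) := by
        refine inv_eq_of_mul_eq_one_right ?_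
        rw [hx']
        refine Qd.ext_lin_vec ?_ ?_
        · simp
        · rw [Qd.vec_mul]; simp [Qd.vec_one]
      have hc : Qd.lin ((e' g) ^ m) 1 0 = 0 ∧ Qd.lin ((e' g) ^ m) 1 1 = 1 := by
        rw [map_zpow]
        have hu : Qd.lin (e' g) ∈ SL2.upper (ZMod p) :=
          SL2.mem_upper.mpr ⟨1, by simp [hg]⟩
        obtain ⟨z, hz⟩ := SL2.mem_upper.mp (zpow_mem hu m)
        rw [← hz]
        simp [SL2.coe_uT]
      have he : e' ⁅x, g ^ m⁆ =
          e' x * ((e' g) ^ m * (e' x)⁻¹ * ((e' g) ^ m)⁻¹) := by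
        rw [commutatorElement_def, map_mul, map_mul, map_mul, map_inv, map_inv, map_zpow]
        group
      rw [he, hinv, Qd.conj_translation, Qd.vec_mul, Qd.vec_mk, hxl]
      rw [map_zpow] at hc
      simp [Matrix.mulVec, dotProduct, Fin.sum_univ_two, hc.1, hc.2]
  have hT : ⁅T, zpowers g⁆ = ⊥ := by
    rw [commutator_eq_bot_iff_le_centralizer, le_centralizer_iff, zpowers_le, mem_centralizer_iff]
    intro x hx
    obtain ⟨hxl, hx1⟩ : Qd.lin (e' x) = 1 ∧ Qd.vec (e' x) 1 = 0 := hx
    refine e'.injective (Qd.ext_lin_vec ?_ ?_)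
    · simp only [map_mul, hxl, one_mul, mul_one]
    · simp only [map_mul, Qd.vec_mul, hxl, hg, MulEquiv.apply_symm_apply, Qd.lin_mk, Qd.vec_mk]
      funext i
      fin_cases i <;>
        simp [SL2.coe_uT, Matrix.mulVec, dotProduct, Fin.sum_univ_two, hx1]
  have hquad : ⁅⁅P, zpowers g⁆, zpowers g⁆ = ⊥ :=
    le_bot_iff.mp (hT ▸ commutator_mono hPT le_rfl)
  have h := hst P hPp g hgN hquad
  have hker : (centralizer (P : Set Q)).subgroupOf (normalizer (P : Set Q)) ≤
      (θ.comp (normalizer (P : Set Q)).subtype).ker := by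
    intro x hx
    rw [MonoidHom.mem_ker]
    rw [mem_subgroupOf, mem_centralizer_iff] at hx
    have hfix : ∀ t : Fin 2 → ZMod p,
        ((θ (x : Q) : Matrix (Fin 2) (Fin 2) (ZMod p))).mulVec t = t := by
      intro t
      have ht : e'.symm (Qd.mk 1 t) ∈ P := MonoidHom.mem_ker.mpr (by simp [θ])
      have h1 := congrArg e' (hx _ ht)
      rw [map_mul, map_mul, MulEquiv.apply_symm_apply] at h1
      have h2 := Qd.conj_translation (e' (x : Q)) t
      rw [← h1, mul_inv_cancel_right] at h2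
      have h3 := congrArg Qd.vec h2
      rw [Qd.vec_mk, Qd.vec_mk] at h3
      exact h3.symm
    apply Subtype.ext
    apply Matrix.toLin'.injective
    refine LinearMap.ext fun t => ?_
    simpa using hfix t
  let ψ := QuotientGroup.lift _ (θ.comp (normalizer (P : Set Q)).subtype) hker
  have hψ : Function.Surjective ψ := fun A => by
    obtain ⟨x, rfl⟩ := hθ A
    exact ⟨QuotientGroup.mk ⟨x, by rw [normalizer_eq_top]; exact mem_top x⟩, rfl⟩
  have h2 := H1.map_pCore_le_of_surjective p ψ hψ ⟨_, h, rfl⟩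
  rw [SL2.pCore_eq_bot] at h2
  have h3 : θ g = 1 := mem_bot.mp h2
  rw [hθg] at h3
  have h4 : SL2.uT (1 : ZMod p) = SL2.uT 0 := by
    rw [h3]; apply Subtype.ext; simp [SL2.coe_uT, Matrix.one_fin_two]
  exact one_ne_zero (SL2.uT_inj h4)

end H74.QdStable
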